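/-
The product of bit-packed matrices of size 52.
-/
import Cfsg.Agent.TitsMult.BaseData

set_option autoImplicit false

namespace CfsgLib.TitsMult

open CfsgLib.CentralCert

/-- The product of codes. -/
def mul : ℕ → ℕ → ℕ := BitMat.mulWith 52 mask

/-- The modulus for distinguishing codes. -/
def modulus : ℕ := 2305843009213693951

end CfsgLib.TitsMult
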