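/-
Entries of the root elements over two elements, computed with natural numbers.
-/
import Cfsg.Agent.TitsMult.Ops
import Cfsg.Prelude.Def_LieTwisted

set_option autoImplicit false
set_option maxRecDepth 100000
set_option maxHeartbeats 1000000

namespace CfsgLib.TitsMult

open CfsgLib.ExtCert CfsgLib.CentralCert Cfsg.Lie

/-- The coordinates in their natural order. -/
def idx : chevF4.Idx ≃ Fin 52 := finSumFinEquiv

/-- The parity of an integer. -/
def par (z : ℤ) : ℕ := (z % 2).toNat

theorem val_intCast_two (z : ℤ) : ((z : ZMod 2)).val = par z := by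
  have h := ZMod.val_intCast (n := 2) z
  rw [par]
  omega

/-- An entry of a root element with coefficient one. -/
def fbit (r i j : ℕ) : ℕ :=
  if j < 4 then
    if i < 4 then (if i = j then 1 else 0)
    else if i - 4 = r then par ((chevF4.cartanSR.getD j #[]).getD r 0) else 0
  else
    if j - 4 = r then (if 4 ≤ i ∧ i - 4 = r then 1 else 0)
    else if j - 4 = chevF4.negIdx.getD r 0 then
      if i < 4 then par ((chevF4.coroot.getD r #[]).getD i 0)
      else if i - 4 = j - 4 then 1 else if i - 4 = r then 1 else 0
    else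
      if i < 4 then 0
      else ((if i - 4 = j - 4 then 1 else 0) + par ((chevF4.chainCoeff r (j - 4) (i - 4)).map Prod.snd).sum) % 2

theorem xMat_zero (r : Fin chevF4.nroots) (a b : chevF4.Idx) :
    chevF4.xMat (ZMod 2) r 0 a b = (1 : Matrix chevF4.Idx chevF4.Idx (ZMod 2)) a b := by
  have hk : ∀ km ∈ chevF4.chainCoeff r.1 (b.elim (fun _ => 0) (·.1)) (a.elim (fun _ => 0) (·.1)),
      ((km.2 : ℤ) : ZMod 2) * (0 : ZMod 2) ^ km.1 = 0 := by
    intro km hkm
    simp only [ChevalleyDatum.chainCoeff, List.mem_flatMap, List.mem_map] at hkm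
    obtain ⟨e, -, q, -, rfl⟩ := hkm
    simp
  cases b with
  | inl i =>
    cases a with
    | inl i' => simp [ChevalleyDatum.xMat, Matrix.one_apply]
    | inr u => simp [ChevalleyDatum.xMat, Matrix.one_apply]
  | inr s =>
    cases a with
    | inl i =>
      simp only [ChevalleyDatum.xMat, Matrix.of_apply, Matrix.one_apply, reduceCtorEq, if_false]
      split_ifs <;> simp
    | inr u =>
      simp only [ChevalleyDatum.xMat, Matrix.of_apply, Matrix.one_apply, Sum.inr.injEq]
      simp only [Sum.elim_inr] at hk
      rw [List.map_congr_left hk]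
      split_ifs <;> simp_all

theorem fbit_spec (r : Fin chevF4.nroots) (a b : chevF4.Idx) :
    (chevF4.xMat (ZMod 2) r 1 a b).val = fbit r.1 (idx a).1 (idx b).1 := by
  have e1 : ∀ i : Fin chevF4.rank, (idx (Sum.inl i)).1 = i.1 := fun i => rfl
  have e2 : ∀ u : Fin chevF4.nroots, (idx (Sum.inr u)).1 = 4 + u.1 := fun u => rfl
  have hl : ∀ i : Fin chevF4.rank, i.1 < 4 := fun i => i.2
  cases b with
  | inl i =>
    cases a with
    | inl i' =>
      rw [e1, e1, fbit, if_pos (hl i), if_pos (hl i')]
      simp only [ChevalleyDatum.xMat, Matrix.of_apply]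
      by_cases h : i' = i
      · subst h; simp only [if_true]; rfl
      · rw [if_neg h, if_neg (fun e => h (Fin.ext e))]; rfl
    | inr u =>
      rw [e1, e2, fbit, if_pos (hl i), if_neg (by omega), Nat.add_sub_cancel_left]
      simp only [ChevalleyDatum.xMat, Matrix.of_apply]
      by_cases h : u = r
      · subst h
        rw [if_pos rfl, if_pos rfl, mul_one, ZMod.neg_eq_self_mod_two, val_intCast_two]
      · rw [if_neg h, if_neg (fun e => h (Fin.ext e))]; rfl
  | inr s =>
    cases a with
    | inl i =>
      rw [e1, e2, fbit, if_neg (by omega), Nat.add_sub_cancel_left]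
      simp only [ChevalleyDatum.xMat, Matrix.of_apply]
      by_cases h : s = r
      · rw [if_pos h, if_pos (congrArg Fin.val h), if_neg (fun c => by have := hl i; omega)]; rfl
      rw [if_neg h, if_neg (fun e => h (Fin.ext e))]
      by_cases h' : s.1 = chevF4.negIdx.getD r.1 0
      · rw [if_pos h', if_pos h', if_pos (hl i), mul_one, val_intCast_two]
      · rw [if_neg h', if_neg h', if_pos (hl i)]; rfl
    | inr u =>
      rw [e2, e2, fbit, if_neg (by omega), Nat.add_sub_cancel_left, Nat.add_sub_cancel_left]
      simp only [ChevalleyDatum.xMat, Matrix.of_apply]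
      by_cases h : s = r
      · rw [if_pos h, if_pos (congrArg Fin.val h)]
        by_cases hu : u = r
        · rw [if_pos hu, if_pos ⟨by omega, congrArg Fin.val hu⟩]; rfl
        · rw [if_neg hu, if_neg (fun c => hu (Fin.ext c.2))]; rfl
      rw [if_neg h, if_neg (fun e => h (Fin.ext e))]
      by_cases h' : s.1 = chevF4.negIdx.getD r.1 0
      · rw [if_pos h', if_pos h', if_neg (by omega : ¬ 4 + u.1 < 4)]
        by_cases hu : u = s
        · rw [if_pos hu, if_pos (congrArg Fin.val hu)]; rfl
        rw [if_neg hu, if_neg (fun e => hu (Fin.ext e))]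
        by_cases hur : u = r
        · rw [if_pos hur, if_pos (congrArg Fin.val hur), one_pow, ZMod.neg_eq_self_mod_two]; rfl
        · rw [if_neg hur, if_neg (fun e => hur (Fin.ext e))]; rfl
      · rw [if_neg h', if_neg h', if_neg (by omega : ¬ 4 + u.1 < 4)]
        have hsum : ∀ l : List (ℕ × ℤ), (l.map fun km => ((km.2 : ℤ) : ZMod 2) * (1 : ZMod 2) ^ km.1).sum =
            (((l.map Prod.snd).sum : ℤ) : ZMod 2) := fun l => by
          induction l with
          | nil => simp
          | cons km l ih =>
            simp only [one_pow, mul_one] at ih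
            simp only [List.map_cons, List.sum_cons, Int.cast_add, one_pow, mul_one, ih]
        rw [hsum, ZMod.val_add, val_intCast_two]
        by_cases hu : u = s
        · subst hu; rw [if_pos rfl, if_pos rfl]; rfl
        · rw [if_neg hu, if_neg (fun e => hu (Fin.ext e))]; rfl

end CfsgLib.TitsMult
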