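/-
Coded generators of the twisted group of type F4 over two elements.
-/
import Cfsg.Agent.TitsMult.RootCode
import Cfsg.Prelude.Def_LieTwisted

set_option autoImplicit false
set_option maxRecDepth 100000
set_option maxHeartbeats 1000000

namespace CfsgLib.TitsMult

open CfsgLib.ExtCert CfsgLib.CentralCert Cfsg.Lie

/-- Matrices indexed by numbers. -/
def toFin : Matrix chevF4.Idx chevF4.Idx (ZMod 2) →* Matrix (Fin 52) (Fin 52) (ZMod 2) where
  toFun M := M.submatrix idx.symm idx.symm
  map_one' := Matrix.submatrix_one_equiv _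
  map_mul' M N := (Matrix.submatrix_mul_equiv M N _ idx.symm _).symm

theorem toFin_injective : Function.Injective toFin := fun M N h => Matrix.ext fun i j => by
  have := congrFun (congrFun h (idx i)) (idx j)
  simpa [toFin] using this

/-- The code of a matrix of the adjoint module. -/
def mcode (M : Matrix chevF4.Idx chevF4.Idx (ZMod 2)) : ℕ := BitMat.code (toFin M)

theorem mask_eq : mask = BitMat.colMask 52 := by decide +kernel

theorem one_eq : one = packN (2 ^ 52) 52 fun i => 2 ^ i := by decide +kernel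

theorem mcode_mul (M N : Matrix chevF4.Idx chevF4.Idx (ZMod 2)) :
    mcode (M * N) = mul (mcode M) (mcode N) := by
  rw [mcode, map_mul, BitMat.code_mul, mul, mask_eq]; rfl

theorem mcode_one : mcode 1 = one := by rw [mcode, map_one, BitMat.code_one, one_eq]

theorem mcode_injective : Function.Injective mcode := BitMat.code_injective.comp toFin_injective

/-- The code of a root element. -/
def rcode (r : ℕ) : ℕ := rootCodes.getD (roots.findIdx (Nat.beq r ·)) one

/-- The code of a root element with coefficient. -/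
def pcode (p : ℕ × ZMod 2) : ℕ := if p.2 = 0 then one else rcode p.1

/-- The code of a word in root elements. -/
def wcode (w : List (ℕ × ZMod 2)) : ℕ := w.foldr (fun p r => mul (pcode p) r) one

theorem fast_codes : roots.all (fun r =>
    Nat.blt r 48 && Nat.beq (packN (2 ^ 52) 52 fun i => packN 2 52 (fbit r i)) (rcode r)) = true := by
  decide +kernel

theorem mcode_x_one : ∀ r ∈ roots, mcode (chevF4.x (ZMod 2) r 1) = rcode r := by
  intro r hr
  have h := List.all_eq_true.mp fast_codes r hr
  rw [Bool.and_eq_true, Nat.blt_eq] at h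
  rw [← Nat.eq_of_beq_eq_true h.2, mcode, BitMat.code]
  refine packN_congr _ _ _ fun i hi => packN_congr _ _ _ fun j hj => ?_
  have hr' : r < chevF4.nroots := h.1
  rw [BitMat.bit, dif_pos ⟨hi, hj⟩, ChevalleyDatum.x, dif_pos hr']
  show (chevF4.xMat (ZMod 2) ⟨r, hr'⟩ 1 (idx.symm ⟨i, hi⟩) (idx.symm ⟨j, hj⟩)).val = _
  rw [fbit_spec, Equiv.apply_symm_apply, Equiv.apply_symm_apply]

theorem mcode_x_zero : ∀ r ∈ roots, mcode (chevF4.x (ZMod 2) r 0) = one := by
  intro r hr
  have h := List.all_eq_true.mp fast_codes r hr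
  rw [Bool.and_eq_true, Nat.blt_eq] at h
  rw [ChevalleyDatum.x, dif_pos (show r < chevF4.nroots from h.1),
    show chevF4.xMat (ZMod 2) ⟨r, h.1⟩ 0 = 1 from Matrix.ext fun a b => xMat_zero _ a b]
  exact mcode_one

theorem mcode_wordMat (w : List (ℕ × ZMod 2)) (hw : ∀ p ∈ w, p.1 ∈ roots) :
    mcode (chevF4.wordMat (ZMod 2) w) = wcode w := by
  induction w with
  | nil => exact mcode_one
  | cons p w ih =>
    rw [ChevalleyDatum.wordMat, List.map_cons, List.prod_cons, mcode_mul, wcode, List.foldr_cons, ← wcode,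
      ← ChevalleyDatum.wordMat, ih fun q hq => hw q (List.mem_cons_of_mem _ hq)]
    congr 1
    obtain ⟨r, t⟩ := p
    have hr : r ∈ roots := hw _ List.mem_cons_self
    rcases (by decide : ∀ t : ZMod 2, t = 0 ∨ t = 1) t with rfl | rfl
    · simpa [pcode] using mcode_x_zero r hr
    · simpa [pcode] using mcode_x_one r hr

/-- Products of generators giving all words. -/
def prodWords : List (List ℕ) := [[], [0], [1], [2], [3], [4], [5], [2, 3], [4, 5]]

theorem words_cases {w : List (ℕ × ZMod 2)} (h : w ∈ f4Words (ZMod 2) 1) :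
    (∀ p ∈ w, p.1 ∈ roots) ∧ ∃ v ∈ prodWords, wcode w = tab one mul genCodes v := by
  have key1 : ∀ t : ZMod 2, ∀ ab ∈ [(f4p1, f4p4), (f4m1, f4m4)],
      (∀ p ∈ f4PairWord 1 ab.1 ab.2 t, p.1 ∈ roots) ∧
        ∃ v ∈ prodWords, wcode (f4PairWord 1 ab.1 ab.2 t) = tab one mul genCodes v := by
    decide +kernel
  have key2 : ∀ t u : ZMod 2, ∀ ab ∈ [(f4a, f4b, f4ab, f4aab), (f4ma, f4mb, f4mab, f4maab)],
      (∀ p ∈ b2ClassWord 1 ab.1 ab.2.1 ab.2.2.1 ab.2.2.2 t u, p.1 ∈ roots) ∧
        ∃ v ∈ prodWords,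
          wcode (b2ClassWord 1 ab.1 ab.2.1 ab.2.2.1 ab.2.2.2 t u) = tab one mul genCodes v := by
    decide +kernel
  rcases h with ⟨t, rfl | rfl⟩ | ⟨t, u, rfl | rfl⟩
  · exact key1 t (f4p1, f4p4) (by simp)
  · exact key1 t (f4m1, f4m4) (by simp)
  · exact key2 t u (f4a, f4b, f4ab, f4aab) (by simp)
  · exact key2 t u (f4ma, f4mb, f4mab, f4maab) (by simp)

/-- The code of an element of the group. -/
def gcode (g : twistedF4 (ZMod 2) 1) : ℕ := mcode ((g : GL chevF4.Idx (ZMod 2)) : Matrix _ _ _)

theorem gcode_one : gcode 1 = one := mcode_one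

theorem gcode_mul (g h : twistedF4 (ZMod 2) 1) : gcode (g * h) = mul (gcode g) (gcode h) := mcode_mul _ _

theorem gcode_act (M : Matrix (Fin 52) (Fin 52) (ZMod 2)) (g h : twistedF4 (ZMod 2) 1) :
    mul (BitMat.code M) (gcode (g * h)) = mul (mul (BitMat.code M) (gcode g)) (gcode h) := by
  simp only [gcode, Subgroup.coe_mul, Units.val_mul, mcode, map_mul, mul, mask_eq, ← BitMat.code_mul,
    Matrix.mul_assoc]

theorem gcode_injective : Function.Injective gcode := fun g h e =>
  Subtype.ext (Units.ext (mcode_injective e))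

/-- The words of the generators. -/
def genWords : List (List (ℕ × ZMod 2)) :=
  [f4PairWord 1 f4p1 f4p4 1, f4PairWord 1 f4m1 f4m4 1, b2ClassWord 1 f4a f4b f4ab f4aab 1 0,
    b2ClassWord 1 f4a f4b f4ab f4aab 0 1, b2ClassWord 1 f4ma f4mb f4mab f4maab 1 0,
    b2ClassWord 1 f4ma f4mb f4mab f4maab 0 1]

theorem wcode_genWords : genWords.map wcode = genCodes := by decide +kernel

theorem gen_pow_four : genCodes.all (fun c => Nat.beq (mul c (mul c (mul c c))) one) = true := by
  decide +kernel

attribute [local irreducible] wcode mcode mul one genCodes rootCodes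

theorem exists_gen (j : ℕ) (hj : j < 6) : ∃ g : twistedF4 (ZMod 2) 1, gcode g = genCodes.getD j one := by
  have hl : genWords.length = 6 := rfl
  have hj' : j < genWords.length := by omega
  have hmem : genWords[j] ∈ f4Words (ZMod 2) 1 := by
    interval_cases j
    · exact Or.inl ⟨1, Or.inl rfl⟩
    · exact Or.inl ⟨1, Or.inr rfl⟩
    · exact Or.inr ⟨1, 0, Or.inl rfl⟩
    · exact Or.inr ⟨0, 1, Or.inl rfl⟩
    · exact Or.inr ⟨1, 0, Or.inr rfl⟩
    · exact Or.inr ⟨0, 1, Or.inr rfl⟩
  have hc : mcode (chevF4.wordMat (ZMod 2) genWords[j]) = genCodes.getD j one := by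
    rw [mcode_wordMat _ (words_cases hmem).1, ← wcode_genWords, List.getD_eq_getElem _ _ (by simpa using hj'),
      List.getElem_map]
  set M := chevF4.wordMat (ZMod 2) genWords[j]
  have h4 : M ^ 4 = 1 := mcode_injective (by
    have h := List.all_eq_true.mp gen_pow_four (genCodes.getD j one) (by
      rw [List.getD_eq_getElem _ _ (by rw [← wcode_genWords, List.length_map]; omega)]
      exact List.getElem_mem _)
    rw [show M ^ 4 = M * (M * (M * M)) by simp [pow_succ, mul_assoc], mcode_mul, mcode_mul, mcode_mul, hc,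
      mcode_one]
    exact Nat.eq_of_beq_eq_true h)
  refine ⟨⟨⟨M, M ^ 3, ?_, ?_⟩, Subgroup.subset_closure ⟨_, hmem, rfl⟩⟩, ?_⟩
  · rw [← pow_succ']; exact h4
  · rw [← pow_succ]; exact h4
  · exact hc

/-- The generators. -/
noncomputable def genE (j : ℕ) : twistedF4 (ZMod 2) 1 :=
  if h : j < 6 then (exists_gen j h).choose else 1

theorem gcode_genE (j : ℕ) : gcode (genE j) = genCodes.getD j one := by
  unfold genE
  split
  · next h => exact (exists_gen j h).choose_spec
  · next h =>
    rw [gcode_one, List.getD_eq_default _ _ (by rw [← wcode_genWords, List.length_map]; simp [genWords]; omega)]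

/-- Equal codes give equal products of generators. -/
theorem ev_genE_eq {v w : List ℕ} (h : Nat.beq (tab one mul genCodes v) (tab one mul genCodes w) = true) :
    ev genE v = ev genE w := by
  let md : Model (twistedF4 (ZMod 2) 1) ℕ := ⟨gcode, one, mul, gcode_injective, gcode_one, gcode_mul⟩
  exact md.eq_of_tab (x := genE) (B := genCodes) gcode_genE (Nat.eq_of_beq_eq_true h)

theorem gcode_ev (v : List ℕ) : gcode (ev genE v) = tab one mul genCodes v := by
  let md : Model (twistedF4 (ZMod 2) 1) ℕ := ⟨gcode, one, mul, gcode_injective, gcode_one, gcode_mul⟩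
  exact md.tab_spec (x := genE) (B := genCodes) gcode_genE v

theorem gcode_of_wordMat (g : twistedF4 (ZMod 2) 1) (w : List (ℕ × ZMod 2)) (hr : ∀ p ∈ w, p.1 ∈ roots)
    (h : ((g : GL chevF4.Idx (ZMod 2)) : Matrix _ _ _) = chevF4.wordMat (ZMod 2) w) : gcode g = wcode w :=
  (congrArg mcode h).trans (mcode_wordMat w hr)

attribute [local irreducible] gcode tab genE

theorem ev_mem_closure (v : List ℕ) : ev genE v ∈ Subgroup.closure (Set.range genE) := by
  induction v with
  | nil => rw [ev_nil]; exact one_mem _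
  | cons i v ih => rw [ev_cons]; exact mul_mem (Subgroup.subset_closure ⟨i, rfl⟩) ih

theorem mem_closure_of_word (g : twistedF4 (ZMod 2) 1) (w : List (ℕ × ZMod 2))
    (hw : w ∈ f4Words (ZMod 2) 1)
    (h : ((g : GL chevF4.Idx (ZMod 2)) : Matrix _ _ _) = chevF4.wordMat (ZMod 2) w) :
    g ∈ Subgroup.closure (Set.range genE) := by
  obtain ⟨hr, v, -, hc⟩ := words_cases hw
  have e : g = ev genE v := gcode_injective (by rw [gcode_ev, gcode_of_wordMat g w hr h, hc])
  rw [e]
  exact ev_mem_closure v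

theorem closure_genE :
    ∀ g : twistedF4 (ZMod 2) 1, g ∈ Subgroup.closure (Set.range genE) := by
  intro g
  obtain ⟨g, hg⟩ := g
  have hle : twistedF4 (ZMod 2) 1 ≤
      (Subgroup.closure (Set.range genE)).map (twistedF4 (ZMod 2) 1).subtype := by
    refine (Subgroup.closure_le _).mpr ?_
    rintro x ⟨w, hw, hxw⟩
    have hx : x ∈ twistedF4 (ZMod 2) 1 := Subgroup.subset_closure ⟨w, hw, hxw⟩
    exact ⟨⟨x, hx⟩, mem_closure_of_word ⟨x, hx⟩ w hw hxw, rfl⟩
  obtain ⟨y, hy, hyg⟩ := hle hg
  have e : y = ⟨g, hg⟩ := Subtype.ext hyg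
  rwa [e] at hy

end CfsgLib.TitsMult
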