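/-
The generators used in the Tits group.
-/
import Cfsg.Agent.TitsMult.Gen
import Cfsg.Agent.Chev.TwistedF4Two
import Cfsg.Agent.SplitBN.TitsSimple

set_option autoImplicit false
set_option maxRecDepth 100000
set_option maxHeartbeats 1000000

namespace CfsgLib.TitsMult

open CfsgLib.ExtCert CfsgLib.CentralCert Cfsg.Lie

/-- The words of the generators of the Tits group. -/
def baseWords : List (List ℕ) :=
  [[0], [1], [3], [5], [2, 2], [4, 4], [0, 1, 0, 2, 0, 1, 0, 2, 2, 2],
    [3, 5, 3, 5, 3, 2, 3, 5, 3, 5, 3, 2, 2, 2]]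

theorem baseWords_codes : baseWords.map (tab one mul genCodes) = base := by decide +kernel

theorem inv_words : [0, 1, 3, 5].all (fun i =>
    Nat.beq (tab one mul genCodes [i, i]) (tab one mul genCodes []) &&
      !Nat.beq (tab one mul genCodes [i]) (tab one mul genCodes [])) = true := by decide +kernel

attribute [local irreducible] tab genE gcode

theorem tits_group_facts :
    (commutator ↥(twistedF4 (ZMod 2) 1)).index = 2 ∧
    Nat.card ↥(commutator ↥(twistedF4 (ZMod 2) 1)) = 2 ^ 11 * 8775 ∧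
    ∀ g : ↥(twistedF4 (ZMod 2) 1), orderOf g = 2 → g ∈ commutator ↥(twistedF4 (ZMod 2) 1) := by
  obtain ⟨C⟩ := CfsgLib.Chev.F4Tw.exists_ctx (K := ZMod 2) (m := 0) (ZMod.card 2)
  have h : ∀ e : ℕ, e = 2 ^ 0 → (commutator ↥(twistedF4 (ZMod 2) e)).index = 2 ∧
      Nat.card ↥(commutator ↥(twistedF4 (ZMod 2) e)) = 2 ^ 11 * 8775 ∧
      ∀ g : ↥(twistedF4 (ZMod 2) e), orderOf g = 2 → g ∈ commutator ↥(twistedF4 (ZMod 2) e) := by
    rintro e rfl
    exact ⟨CfsgLib.SplitBN.tits_index C, CfsgLib.SplitBN.tits_card C, CfsgLib.Chev.F4Two.involution_mem C⟩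
  exact h 1 (pow_zero 2).symm

theorem ev_baseWord_mem (i : ℕ) :
    ev genE (baseWords.getD i []) ∈ commutator ↥(twistedF4 (ZMod 2) 1) := by
  obtain ⟨hidx, -, hinv⟩ := tits_group_facts
  set H := commutator ↥(twistedF4 (ZMod 2) 1)
  have hsq : ∀ a, a * a ∈ H := fun a => Subgroup.mul_self_mem_of_index_two hidx a
  have hone : ∀ j ∈ [0, 1, 3, 5], ev genE [j] ∈ H := by
    intro j hj
    have h := List.all_eq_true.mp inv_words j hj
    rw [Bool.and_eq_true, Bool.not_eq_true'] at h
    apply hinv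
    refine orderOf_eq_prime (p := 2) ?_ fun h1 => ?_
    · rw [pow_two, ← ev_append]
      exact (ev_genE_eq h.1).trans (ev_nil _)
    · have := gcode_ev [j]
      rw [h1, ← ev_nil genE, gcode_ev] at this
      rw [← this] at h
      simp at h
  match i with
  | 0 => exact hone 0 (by simp)
  | 1 => exact hone 1 (by simp)
  | 2 => exact hone 3 (by simp)
  | 3 => exact hone 5 (by simp)
  | 4 =>
    show ev genE [2, 2] ∈ H
    rw [show [2, 2] = [2] ++ [2] from rfl, ev_append]; exact hsq _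
  | 5 =>
    show ev genE [4, 4] ∈ H
    rw [show [4, 4] = [4] ++ [4] from rfl, ev_append]; exact hsq _
  | 6 =>
    show ev genE [0, 1, 0, 2, 0, 1, 0, 2, 2, 2] ∈ H
    rw [show [0, 1, 0, 2, 0, 1, 0, 2, 2, 2] = [0, 1, 0, 2] ++ [0, 1, 0, 2] ++ ([2] ++ [2]) from rfl,
      ev_append, ev_append, ev_append genE [2] [2]]
    exact mul_mem (hsq _) (hsq _)
  | 7 =>
    show ev genE [3, 5, 3, 5, 3, 2, 3, 5, 3, 5, 3, 2, 2, 2] ∈ H
    rw [show [3, 5, 3, 5, 3, 2, 3, 5, 3, 5, 3, 2, 2, 2] =
        [3, 5, 3, 5, 3, 2] ++ [3, 5, 3, 5, 3, 2] ++ ([2] ++ [2]) from rfl,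
      ev_append, ev_append, ev_append genE [2] [2]]
    exact mul_mem (hsq _) (hsq _)
  | n + 8 =>
    rw [List.getD_eq_default _ _ (by simp [baseWords]), ev_nil]
    exact one_mem _

/-- The generators of the Tits group. -/
noncomputable def baseT (i : ℕ) : TitsGroup := ⟨ev genE (baseWords.getD i []), ev_baseWord_mem i⟩

theorem gcode_baseT (i : ℕ) : gcode (baseT i).1 = base.getD i one := by
  show gcode (ev genE (baseWords.getD i [])) = _
  rw [gcode_ev, ← baseWords_codes]
  rcases lt_or_ge i baseWords.length with hi | hi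
  · rw [List.getD_eq_getElem _ _ hi, List.getD_eq_getElem _ _ (by simpa using hi), List.getElem_map]
  · rw [List.getD_eq_default _ _ hi, List.getD_eq_default _ _ (by simpa using hi)]
    unfold tab
    rfl

end CfsgLib.TitsMult
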