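/-
An upper bound for the 5-part of the multiplier of the Tits group.
-/
import Cfsg.Agent.CentralCert.Upper

set_option autoImplicit false
set_option maxRecDepth 100000

namespace CfsgLib.TitsMult

open CfsgLib.CentralCert

/-- The certificate for the upper bound. -/
def upperFive : Upper where
  W := [
    [0, 7, 6, 2, 6, 7, 0],
    [0, 6, 6, 7, 0, 3, 6, 6, 6, 6, 6, 6, 2, 0, 1, 3, 1, 0, 7, 7, 0, 1, 3, 1, 3, 0, 1, 7, 7, 7, 7]]
  rels := [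
    ([0, 0, 0, 0, 0], []),
    ([1, 1, 1, 1, 1], []),
    ([1, 0], [0, 1])]
  NF := [
    [],
    [1],
    [1, 1],
    [1, 1, 1],
    [1, 1, 1, 1],
    [0],
    [0, 1],
    [0, 1, 1],
    [0, 1, 1, 1],
    [0, 1, 1, 1, 1],
    [0, 0],
    [0, 0, 1],
    [0, 0, 1, 1],
    [0, 0, 1, 1, 1],
    [0, 0, 1, 1, 1, 1],
    [0, 0, 0],
    [0, 0, 0, 1],
    [0, 0, 0, 1, 1],
    [0, 0, 0, 1, 1, 1],
    [0, 0, 0, 1, 1, 1, 1],
    [0, 0, 0, 0],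
    [0, 0, 0, 0, 1],
    [0, 0, 0, 0, 1, 1],
    [0, 0, 0, 0, 1, 1, 1],
    [0, 0, 0, 0, 1, 1, 1, 1]]
  cons := [
    ([1], 0)]
  fus := [
    ⟨[3, 6, 6, 7, 6, 6, 7, 0], [[0], [1]], [[0, 0, 0, 0], [1]], [0, 1], [1, 0]⟩]
  K := [
    [(2, 5)],
    [(2, -3)]]
  sec := [
    [(0, 1)],
    [(1, 1)]]
  C := [
    [(0, 1)],
    [(1, 1)],
    []]
  e := [
]
  d := []
  A := [
    [],
    [],
    []]
  sels := [
    [],
    [],
    [(0, 1), (1, 2)]]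
  dsels := [
]

end CfsgLib.TitsMult
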