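/-
Collection in a polycyclic presentation recording the relations used, and tests for normal forms.
-/
import Cfsg.Agent.CentralCert.Upper

set_option autoImplicit false

namespace CfsgLib.TitsMult

open CfsgLib.ExtCert CfsgLib.CentralCert

/-- Equality of words by structural recursion. -/
def eqW : List ℕ → List ℕ → Bool
  | [], [] => true
  | a :: v, b :: w => Nat.beq a b && eqW v w
  | _, _ => false

theorem eq_of_eqW : ∀ v w, eqW v w = true → v = w := by
  intro v
  induction v with
  | nil => intro w h; cases w <;> simp_all [eqW]
  | cons a v ih =>
    intro w h
    cases w with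
    | nil => simp [eqW] at h
    | cons b w =>
      simp only [eqW, Bool.and_eq_true] at h
      rw [Nat.eq_of_beq_eq_true h.1, ih w h.2]

/-- Rewriting by the standard strategy, recording the relations used. -/
def collectPS (rels : List (List ℕ × List ℕ)) (n : ℕ) : ℕ → List ℕ → List ℕ × Sym
  | 0, w => (w, [])
  | fuel + 1, w =>
    match pcStep n [] w with
    | none => (w, [])
    | some (k, pre, suf) =>
      if Nat.blt k rels.length && eqW w (pre ++ (rels.getD k ([], [])).1 ++ suf) then
        let r := collectPS rels n fuel (pre ++ (rels.getD k ([], [])).2 ++ suf)
        (r.1, r.2 ++ [(k, suf)])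
      else (w, [])

theorem rew_collectPS (rels : List (List ℕ × List ℕ)) (n : ℕ) : ∀ (fuel : ℕ) (w : List ℕ),
    Rew rels w (collectPS rels n fuel w).1 (symF (collectPS rels n fuel w).2) := by
  intro fuel
  induction fuel with
  | zero => exact fun w => .refl _
  | succ fuel ih =>
    intro w
    rw [collectPS]
    split
    · exact .refl _
    · next k pre suf _ =>
      split
      · next hk =>
        simp only [Bool.and_eq_true, Nat.blt_eq] at hk
        obtain ⟨hk, hw⟩ := hk
        obtain rfl := eq_of_eqW _ _ hw
        have h := (Rew.step hk (Rew.refl _)).trans (ih (pre ++ (rels.getD k ([], [])).2 ++ suf))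
        simp only [symF, List.map_append, List.map_cons, List.map_nil]
        exact h
      · exact .refl _

end CfsgLib.TitsMult
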