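/-
Matrices over the field with two elements packed into one number, multiplied by outer products.
-/
import Cfsg.Agent.CentralCert.MatModel

set_option autoImplicit false

namespace CfsgLib.BitMat

open CfsgLib.ExtCert CfsgLib.CentralCert

/-- An exclusive-or of finitely many numbers. -/
def xsum : ℕ → (ℕ → ℕ) → ℕ
  | 0, _ => 0
  | k + 1, g => forceN (xsum k g) fun a => forceN (g k) fun b => a ^^^ b

/-- The lowest bit of every row. -/
def colMask (n : ℕ) : ℕ := packN (2 ^ n) n fun _ => 1

/-- The product of packed matrices with a given mask and number of rows. -/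
def mulWith (n mask A B : ℕ) : ℕ :=
  forceN A fun A => forceN B fun B =>
    xsum n fun k => ((A >>> k) &&& mask) * ((B >>> (n * k)) % 2 ^ n)

theorem packN_lt {q : ℕ} : ∀ (n : ℕ) (f : ℕ → ℕ), (∀ k < n, f k < q) → packN q n f < q ^ n := by
  intro n
  induction n with
  | zero => intro f _; simp [packN]
  | succ n ih =>
    intro f hf
    simp only [packN, forceN_eq]
    have h1 := hf 0 (by omega)
    have h2 := ih (fun k => f (k + 1)) fun k hk => hf (k + 1) (by omega)
    calc f 0 + q * packN q n (fun k => f (k + 1)) < q + q * packN q n (fun k => f (k + 1)) := by omega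
      _ = q * (packN q n (fun k => f (k + 1)) + 1) := by ring
      _ ≤ q * q ^ n := Nat.mul_le_mul_left _ h2
      _ = q ^ (n + 1) := (pow_succ' q n).symm

theorem packN_mul_const {q : ℕ} (r : ℕ) : ∀ (n : ℕ) (f : ℕ → ℕ),
    packN q n f * r = packN q n fun k => f k * r := by
  intro n
  induction n with
  | zero => intro f; simp [packN]
  | succ n ih =>
    intro f
    simp only [packN, forceN_eq]
    rw [add_mul, mul_assoc, ih]

theorem testBit_low {m a : ℕ} (ha : a < 2 ^ m) (r j : ℕ) :
    (a + 2 ^ m * r).testBit j = if j < m then a.testBit j else r.testBit (j - m) := by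
  rw [add_comm, Nat.testBit_two_pow_mul_add _ ha]

theorem packN_xor {m : ℕ} : ∀ (n : ℕ) (f g : ℕ → ℕ), (∀ k < n, f k < 2 ^ m) → (∀ k < n, g k < 2 ^ m) →
    packN (2 ^ m) n f ^^^ packN (2 ^ m) n g = packN (2 ^ m) n fun k => f k ^^^ g k := by
  intro n
  induction n with
  | zero => intros; simp [packN]
  | succ n ih =>
    intro f g hf hg
    simp only [packN, forceN_eq]
    rw [← ih _ _ (fun k hk => hf (k + 1) (by omega)) fun k hk => hg (k + 1) (by omega)]
    refine Nat.eq_of_testBit_eq fun j => ?_
    have h1 := hf 0 (by omega)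
    have h2 := hg 0 (by omega)
    rw [Nat.testBit_xor, testBit_low h1, testBit_low h2, testBit_low (Nat.xor_lt_two_pow h1 h2)]
    split_ifs with h <;> simp [Nat.testBit_xor]

theorem xsum_lt {m : ℕ} : ∀ (k : ℕ) (g : ℕ → ℕ), (∀ i < k, g i < 2 ^ m) → xsum k g < 2 ^ m := by
  intro k
  induction k with
  | zero => intro g _; exact Nat.two_pow_pos m
  | succ k ih =>
    intro g hg
    simp only [xsum, forceN_eq]
    exact Nat.xor_lt_two_pow (ih g fun i hi => hg i (by omega)) (hg k (by omega))

theorem xsum_congr : ∀ (k : ℕ) (g h : ℕ → ℕ), (∀ i < k, g i = h i) → xsum k g = xsum k h := by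
  intro k
  induction k with
  | zero => intros; rfl
  | succ k ih =>
    intro g h he
    simp only [xsum, forceN_eq]
    rw [ih g h fun i hi => he i (by omega), he k (by omega)]

theorem packN_zero {q : ℕ} : ∀ n : ℕ, packN q n (fun _ => 0) = 0 := by
  intro n
  induction n with
  | zero => rfl
  | succ n ih => simp only [packN, forceN_eq]; rw [ih]; simp

theorem xsum_packN {m n : ℕ} : ∀ (k : ℕ) (g : ℕ → ℕ → ℕ), (∀ i < k, ∀ j < n, g i j < 2 ^ m) →
    xsum k (fun i => packN (2 ^ m) n (g i)) = packN (2 ^ m) n fun j => xsum k fun i => g i j := by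
  intro k
  induction k with
  | zero => intro g _; simpa [xsum] using (packN_zero n).symm
  | succ k ih =>
    intro g hg
    simp only [xsum, forceN_eq]
    rw [ih g fun i hi => hg i (by omega), packN_xor _ _ _
      (fun j hj => xsum_lt k _ fun i hi => hg i (by omega) j hj) (hg k (by omega))]

theorem shift_and {m : ℕ} (k : ℕ) (hk : k < m) : ∀ (n : ℕ) (f : ℕ → ℕ), (∀ i < n, f i < 2 ^ m) →
    (packN (2 ^ m) n f >>> k) &&& packN (2 ^ m) n (fun _ => 1) =
      packN (2 ^ m) n fun i => f i / 2 ^ k % 2 := by
  intro n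
  induction n with
  | zero => intros; simp [packN]
  | succ n ih =>
    intro f hf
    have hf' : ∀ i < n, f (i + 1) < 2 ^ m := fun i hi => hf (i + 1) (by omega)
    have h0 := hf 0 (by omega)
    have h1 : (1 : ℕ) < 2 ^ m := Nat.one_lt_two_pow (by omega)
    have hb : f 0 / 2 ^ k % 2 < 2 ^ m := by omega
    simp only [packN, forceN_eq]
    rw [← ih _ hf']
    refine Nat.eq_of_testBit_eq fun j => ?_
    rw [Nat.testBit_and, Nat.testBit_shiftRight, testBit_low h0, testBit_low h1, testBit_low hb,
      Nat.testBit_and, Nat.testBit_shiftRight]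
    by_cases hj : j < m
    · rw [if_pos hj, if_pos hj]
      rcases Nat.eq_zero_or_pos j with rfl | hj0
      · rw [if_pos (by omega : k + 0 < m), add_zero, Nat.testBit_zero, Nat.testBit_zero,
          Nat.testBit_eq_decide_div_mod_eq]
        simp [Nat.mod_mod]
      · have h1' : Nat.testBit 1 j = false := Nat.testBit_eq_false_of_lt (Nat.one_lt_two_pow (by omega))
        have h2' : Nat.testBit (f 0 / 2 ^ k % 2) j = false :=
          Nat.testBit_eq_false_of_lt ((Nat.mod_lt _ two_pos).trans_le (Nat.le_pow hj0))
        rw [h1', h2', Bool.and_false]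
    · rw [if_neg hj, if_neg hj, if_neg (by omega : ¬ k + j < m),
        show k + j - m = k + (j - m) by omega]

variable {n : ℕ}

/-- An entry as a bit. -/
def bit (M : Matrix (Fin n) (Fin n) (ZMod 2)) (i j : ℕ) : ℕ :=
  if h : i < n ∧ j < n then (M ⟨i, h.1⟩ ⟨j, h.2⟩).val else 0

theorem bit_lt (M : Matrix (Fin n) (Fin n) (ZMod 2)) (i j : ℕ) : bit M i j < 2 := by
  unfold bit
  split
  · exact ZMod.val_lt _
  · exact two_pos

/-- A packed row. -/
def row (M : Matrix (Fin n) (Fin n) (ZMod 2)) (i : ℕ) : ℕ := packN 2 n (bit M i)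

/-- The code of a matrix. -/
def code (M : Matrix (Fin n) (Fin n) (ZMod 2)) : ℕ := packN (2 ^ n) n (row M)

theorem row_lt (M : Matrix (Fin n) (Fin n) (ZMod 2)) (i : ℕ) : row M i < 2 ^ n :=
  packN_lt n _ fun j _ => bit_lt M i j

theorem code_injective : Function.Injective (code (n := n)) := fun M N h => by
  refine Matrix.ext fun i j => ZMod.val_injective 2 ?_
  have h1 : row M i = row N i := by
    have := congrArg (fun X => digit (2 ^ n) X i.1) h
    simpa only [code, digit_packN (Nat.two_pow_pos n) n _ (fun k _ => row_lt _ k) _ i.2] using this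
  have h2 := congrArg (fun X => digit 2 X j.1) h1
  simp only [row, digit_packN two_pos n _ (fun k _ => bit_lt _ _ k) _ j.2, bit] at h2
  rwa [dif_pos ⟨i.2, j.2⟩, dif_pos ⟨i.2, j.2⟩] at h2

theorem xor_bit {a b : ℕ} (ha : a < 2) (hb : b < 2) : a ^^^ b = (a + b) % 2 := by
  interval_cases a <;> interval_cases b <;> rfl

theorem xsum_cast : ∀ (k : ℕ) (g : ℕ → ℕ), (∀ i < k, g i < 2) →
    (xsum k g : ZMod 2) = ∑ i ∈ Finset.range k, (g i : ZMod 2) := by
  intro k
  induction k with
  | zero => intros; simp [xsum]
  | succ k ih =>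
    intro g hg
    simp only [xsum, forceN_eq]
    rw [Finset.sum_range_succ, ← ih g (fun i hi => hg i (by omega)),
      xor_bit (by simpa using xsum_lt (m := 1) k g fun i hi => hg i (by omega)) (hg k (by omega)),
      ZMod.natCast_mod, Nat.cast_add]

theorem code_mul (M N : Matrix (Fin n) (Fin n) (ZMod 2)) :
    code (M * N) = mulWith n (colMask n) (code M) (code N) := by
  simp only [mulWith, forceN_eq]
  have hmul : ∀ k < n, ∀ i < n, bit M i k * row N k < 2 ^ n := fun k _ i _ => by
    have := bit_lt M i k
    have := row_lt N k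
    interval_cases h : bit M i k <;> simp [h, row_lt]
  rw [xsum_congr n _ (fun k => packN (2 ^ n) n fun i => bit M i k * row N k) fun k hk => ?_,
    xsum_packN n _ hmul]
  · refine packN_congr n _ _ fun i hi => ?_
    rw [xsum_congr n _ (fun k => packN 2 n fun j => bit M i k * bit N k j) fun k hk => by
      rw [row, mul_comm, packN_mul_const]
      simp only [mul_comm]]
    have hb : ∀ k < n, ∀ j < n, bit M i k * bit N k j < 2 ^ 1 := fun k _ j _ => by
      have := bit_lt M i k
      have := bit_lt N k j
      rcases Nat.eq_zero_or_pos (bit M i k) with h | h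
      · simp [h]
      · rw [show bit M i k = 1 by omega, one_mul]; simpa
    rw [show (packN 2 n) = packN (2 ^ 1) n from rfl, xsum_packN n _ hb, row]
    refine packN_congr n _ _ fun j hj => ?_
    have hl := xsum_lt n (fun k => bit M i k * bit N k j) fun k hk => hb k hk j hj
    have hc := xsum_cast n (fun k => bit M i k * bit N k j) fun k hk => by simpa using hb k hk j hj
    rw [show bit (M * N) i j = ((M * N) ⟨i, hi⟩ ⟨j, hj⟩).val by rw [bit, dif_pos ⟨hi, hj⟩],
      show xsum n (fun k => bit M i k * bit N k j) =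
        ((xsum n (fun k => bit M i k * bit N k j) : ℕ) : ZMod 2).val from
        (ZMod.val_cast_of_lt (by simpa using hl)).symm, hc, Matrix.mul_apply,
      ← Fin.sum_univ_eq_sum_range (fun k => ((bit M i k * bit N k j : ℕ) : ZMod 2))]
    congr 1
    refine Finset.sum_congr rfl fun k _ => ?_
    rw [Nat.cast_mul, bit, bit, dif_pos ⟨hi, k.2⟩, dif_pos ⟨k.2, hj⟩, ZMod.natCast_zmod_val,
      ZMod.natCast_zmod_val]
  · rw [code, colMask, shift_and k hk n _ fun i _ => row_lt M i, code, Nat.shiftRight_eq_div_pow,
      pow_mul, ← digit, digit_packN (Nat.two_pow_pos n) n _ (fun i _ => row_lt N i) k hk,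
      packN_mul_const]
    refine packN_congr n _ _ fun i hi => ?_
    congr 1
    have h := digit_packN two_pos n (bit M i) (fun j _ => bit_lt M i j) k hk
    rwa [digit] at h

theorem code_one : code (1 : Matrix (Fin n) (Fin n) (ZMod 2)) = packN (2 ^ n) n fun i => 2 ^ i := by
  refine packN_congr n _ _ fun i hi => ?_
  have key : ∀ (k : ℕ) (s : ℕ), (packN 2 k fun j => if s = j then 1 else 0) = if s < k then 2 ^ s else 0 := by
    intro k
    induction k with
    | zero => intro s; simp [packN]
    | succ k ih =>
      intro s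
      simp only [packN, forceN_eq]
      rcases s with _ | s
      · have : packN 2 k (fun j => if 0 = j + 1 then 1 else 0) = 0 := by simpa using packN_zero (q := 2) k
        rw [this]; simp
      · simp only [Nat.succ.injEq]
        rw [ih s]
        split_ifs <;> simp_all [pow_succ'] <;> omega
  rw [row, packN_congr n _ (fun j => if i = j then 1 else 0) fun j hj => ?_, key, if_pos hi]
  rw [bit, dif_pos ⟨hi, hj⟩, Matrix.one_apply]
  by_cases h : i = j
  · subst h; simp [ZMod.val_one]
  · rw [if_neg h, if_neg fun e => h (congrArg Fin.val e)]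
    simp

/-- The model of a group mapped injectively into matrices. -/
def model {G : Type*} [Group G] (mask one : ℕ) (hmask : mask = colMask n)
    (hone : one = packN (2 ^ n) n fun i => 2 ^ i)
    (φ : G →* Matrix (Fin n) (Fin n) (ZMod 2)) (hφ : Function.Injective φ) : Model G ℕ where
  enc x := code (φ x)
  one := one
  mul := mulWith n mask
  inj := code_injective.comp hφ
  enc_one := by rw [map_one, code_one, hone]
  enc_mul x y := by rw [map_mul, code_mul, hmask]

end CfsgLib.BitMat
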