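/-
Normal words of a polycyclic presentation: reduction and distinctness without computing rewritings.
-/
import Cfsg.Agent.CentralCert.Upper
import Cfsg.Agent.TitsMult.Fast
import Mathlib.GroupTheory.OrderOfElement
import Cfsg.Agent.TitsMult.Model

set_option autoImplicit false

namespace CfsgLib.TitsMult

open CfsgLib.ExtCert CfsgLib.CentralCert

/-- The increasing words in the `m` letters from `i` on. -/
def incW : ℕ → ℕ → List (List ℕ)
  | 0, _ => [[]]
  | m + 1, i => incW m (i + 1) ++ (incW m (i + 1)).map (i :: ·)

theorem incW_length : ∀ m i, (incW m i).length = 2 ^ m := by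
  intro m
  induction m with
  | zero => intro i; rfl
  | succ m ih => intro i; simp [incW, ih, pow_succ, mul_two]

theorem nil_mem_incW : ∀ m i, [] ∈ incW m i := by
  intro m
  induction m with
  | zero => intro i; simp [incW]
  | succ m ih => intro i; exact List.mem_append_left _ (ih (i + 1))

theorem incW_letters : ∀ m i, ∀ w ∈ incW m i, ∀ a ∈ w, i ≤ a ∧ a < i + m := by
  intro m
  induction m with
  | zero => intro i w hw; simp [incW] at hw; simp [hw]
  | succ m ih =>
    intro i w hw a ha
    rw [incW, List.mem_append, List.mem_map] at hw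
    rcases hw with hw | ⟨v, hv, rfl⟩
    · have := ih _ w hw a ha; omega
    · rcases List.mem_cons.mp ha with rfl | ha
      · omega
      · have := ih _ v hv a ha; omega

/-- The relations are those of a polycyclic presentation in `n` letters of order two modulo later ones. -/
def pcRelsOK (n : ℕ) (rels : List (List ℕ × List ℕ)) : Bool :=
  (List.range n).all fun i =>
    (Nat.blt i rels.length && eqW (rels.getD i ([], [])).1 [i, i] &&
      (rels.getD i ([], [])).2.all fun b => Nat.blt i b && Nat.blt b n) &&
    (List.range n).all fun a =>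
      Nat.ble a i ||
        (Nat.blt (n + i * (2 * n - i - 1) / 2 + (a - i - 1)) rels.length &&
          eqW (rels.getD (n + i * (2 * n - i - 1) / 2 + (a - i - 1)) ([], [])).1 [a, i] &&
          match (rels.getD (n + i * (2 * n - i - 1) / 2 + (a - i - 1)) ([], [])).2 with
          | [] => false
          | c :: w => Nat.beq c i && w.all fun b => Nat.blt i b && Nat.blt b n)

theorem pcRels_spec {n : ℕ} {rels : List (List ℕ × List ℕ)} (h : pcRelsOK n rels = true) :
    (∀ i < n, ∃ k v, k < rels.length ∧ rels.getD k ([], []) = ([i, i], v) ∧ ∀ b ∈ v, i < b ∧ b < n) ∧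
      ∀ i < n, ∀ a < n, i < a → ∃ k v, k < rels.length ∧ rels.getD k ([], []) = ([a, i], i :: v) ∧
        ∀ b ∈ v, i < b ∧ b < n := by
  simp only [pcRelsOK, List.all_eq_true, List.mem_range, Bool.and_eq_true, Bool.or_eq_true, Nat.blt_eq,
    Nat.ble_eq] at h
  constructor
  · intro i hi
    obtain ⟨⟨⟨hk, h1⟩, h2⟩, -⟩ := h i hi
    exact ⟨i, _, hk, Prod.ext (eq_of_eqW _ _ h1) rfl, h2⟩
  · intro i hi a ha hia
    obtain ⟨-, h'⟩ := h i hi
    rcases h' a ha with hle | ⟨⟨hk, h1⟩, h2⟩
    · omega
    · generalize hr : rels.getD (n + i * (2 * n - i - 1) / 2 + (a - i - 1)) ([], []) = r at h1 h2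
      obtain ⟨l, v⟩ := r
      cases v with
      | nil => simp at h2
      | cons c w =>
        simp only [Bool.and_eq_true, List.all_eq_true, Nat.blt_eq] at h2
        refine ⟨_, w, hk, ?_, h2.2⟩
        rw [hr, Nat.eq_of_beq_eq_true h2.1]
        exact congrArg (fun l => (l, i :: w)) (eq_of_eqW _ _ h1)

section

variable {rels : List (List ℕ × List ℕ)}

/-- One word reduces to another by relations. -/
def Red (rels : List (List ℕ × List ℕ)) (w v : List ℕ) : Prop := ∃ f : ZForm, Rew rels w v f

theorem Red.refl (w : List ℕ) : Red rels w w := ⟨[], .refl w⟩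

theorem Red.trans {w v x : List ℕ} (h1 : Red rels w v) (h2 : Red rels v x) : Red rels w x := by
  obtain ⟨f, hf⟩ := h1
  obtain ⟨f', hf'⟩ := h2
  exact ⟨_, hf.trans hf'⟩

theorem Red.prepend (p : List ℕ) {w v : List ℕ} (h1 : Red rels w v) : Red rels (p ++ w) (p ++ v) := by
  obtain ⟨f, hf⟩ := h1
  exact ⟨f, by simpa using hf.context p []⟩

theorem Red.step {k : ℕ} (hk : k < rels.length) {l r : List ℕ} (he : rels.getD k ([], []) = (l, r))
    (q : List ℕ) : Red rels (l ++ q) (r ++ q) := by
  have h := Rew.step (pre := []) (suf := q) hk (Rew.refl _)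
  rw [he] at h
  exact ⟨_, by simpa using h⟩

theorem Red.ev_eq {G : Type*} [Group G] {g : ℕ → G}
    (hrel : ∀ k < rels.length, ev g (rels.getD k ([], [])).1 = ev g (rels.getD k ([], [])).2)
    {w v : List ℕ} (h : Red rels w v) : ev g w = ev g v := by
  obtain ⟨f, hf⟩ := h
  induction hf with
  | refl => rfl
  | step hk _ ih => rw [ih, ev_append, ev_append, hrel _ hk, ev_append, ev_append]

theorem exists_red {n : ℕ} (h : pcRelsOK n rels = true) : ∀ m i, i + m = n →
    ∀ w : List ℕ, (∀ a ∈ w, i ≤ a ∧ a < n) → ∃ v ∈ incW m i, Red rels w v := by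
  obtain ⟨hsq, hcom⟩ := pcRels_spec h
  intro m
  induction m with
  | zero =>
    intro i hi w hw
    cases w with
    | nil => exact ⟨[], nil_mem_incW 0 i, Red.refl _⟩
    | cons a w => have := hw a List.mem_cons_self; omega
  | succ m ih =>
    intro i hi w hw
    have claim : ∀ w : List ℕ, (∀ a ∈ w, i ≤ a ∧ a < n) →
        ∃ u, (∀ a ∈ u, i < a ∧ a < n) ∧ (Red rels w u ∨ Red rels w (i :: u)) := by
      intro w
      induction w with
      | nil => intro _; exact ⟨[], by simp, Or.inl (Red.refl _)⟩
      | cons a w ihw =>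
        intro hw
        obtain ⟨ha1, ha2⟩ := hw a List.mem_cons_self
        obtain ⟨u, hu, hor⟩ := ihw fun x hx => hw x (List.mem_cons_of_mem _ hx)
        rcases eq_or_lt_of_le ha1 with rfl | hlt
        · rcases hor with h1 | h1
          · exact ⟨u, hu, Or.inr (h1.prepend [i])⟩
          · obtain ⟨k, v, hk, he, hv⟩ := hsq i ha2
            refine ⟨v ++ u, fun x hx => ?_, Or.inl ((h1.prepend [i]).trans (Red.step hk he u))⟩
            rcases List.mem_append.mp hx with hx | hx
            · exact hv x hx
            · exact hu x hx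
        · rcases hor with h1 | h1
          · refine ⟨a :: u, fun x hx => ?_, Or.inl (h1.prepend [a])⟩
            rcases List.mem_cons.mp hx with rfl | hx
            · exact ⟨hlt, ha2⟩
            · exact hu x hx
          · obtain ⟨k, v, hk, he, hv⟩ := hcom i (by omega) a ha2 hlt
            refine ⟨v ++ u, fun x hx => ?_, Or.inr ((h1.prepend [a]).trans (Red.step hk he u))⟩
            rcases List.mem_append.mp hx with hx | hx
            · exact hv x hx
            · exact hu x hx
    obtain ⟨u, hu, hor⟩ := claim w hw
    obtain ⟨v, hv, hred⟩ := ih (i + 1) (by omega) u fun a ha => hu a ha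
    rcases hor with h1 | h1
    · exact ⟨v, List.mem_append_left _ hv, h1.trans hred⟩
    · exact ⟨i :: v, List.mem_append_right _ (List.mem_map_of_mem hv), h1.trans (hred.prepend [i])⟩

end

/-- Every generator leaves a set that is invariant under the later generators. -/
def orbitsOK (act : ℕ → ℕ → ℕ) (one : ℕ) (T : List ℕ) (n : ℕ) (V : List (List ℕ)) : Bool :=
  (List.range n).all fun i =>
    match V.getD i [] with
    | [] => false
    | v :: r => !((v :: r).any (Nat.beq (act v (T.getD i one)))) &&
        (v :: r).all fun u => (List.range n).all fun j =>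
          Nat.ble j i || (v :: r).any (Nat.beq (act u (T.getD j one)))

/-- The normal words give different elements. -/
theorem nodup_codes {G : Type*} [Group G] [Finite G] (md : Model G ℕ) {sG : ℕ → G} {T : List ℕ}
    (hs : ∀ i, md.enc (sG i) = T.getD i md.one) {rels : List (List ℕ × List ℕ)} {n : ℕ}
    (hrel : ∀ k < rels.length,
      ev sG (rels.getD k ([], [])).1 = ev sG (rels.getD k ([], [])).2)
    (hpc : pcRelsOK n rels = true) (act : ℕ → ℕ → ℕ) (V : List (List ℕ))
    (hone : ∀ l ∈ V, ∀ u ∈ l, act u md.one = u)
    (hact : ∀ l ∈ V, ∀ u ∈ l, ∀ x y, act u (md.enc (x * y)) = act (act u (md.enc x)) (md.enc y))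
    (hV : orbitsOK act md.one T n V = true) :
    ((incW n 0).map (tab md.one md.mul T)).Nodup := by
  suffices key : ∀ m i, i + m = n → ((incW m i).map (ev sG)).Nodup by
    have h := (key n 0 (zero_add n)).map md.inj
    rw [List.map_map] at h
    rwa [List.map_congr_left fun w _ => show tab md.one md.mul T w = (md.enc ∘ ev sG) w from
      (md.tab_spec hs w).symm]
  intro m
  induction m with
  | zero => intro i _; simp [incW]
  | succ m ih =>
    intro i hi
    have hnd := ih (i + 1) (by omega)
    let S : Submonoid G :=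
      { carrier := {x | ∃ w ∈ incW m (i + 1), ev sG w = x}
        one_mem' := ⟨[], nil_mem_incW _ _, ev_nil _⟩
        mul_mem' := by
          rintro _ _ ⟨v, hv, rfl⟩ ⟨w, hw, rfl⟩
          obtain ⟨x, hx, hred⟩ := exists_red hpc m (i + 1) (by omega) (v ++ w) fun a ha => by
            rcases List.mem_append.mp ha with ha | ha
            · have := incW_letters _ _ v hv a ha; omega
            · have := incW_letters _ _ w hw a ha; omega
          refine ⟨x, hx, ?_⟩
          rw [← ev_append, hred.ev_eq hrel] }
    have hnot : sG i ∉ S := by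
      rintro ⟨w, hw, hwe⟩
      simp only [orbitsOK, List.all_eq_true, List.mem_range] at hV
      have h := hV i (by omega)
      split at h
      · simp at h
      next v r hl =>
        simp only [Bool.and_eq_true, List.all_eq_true, List.mem_range, Bool.or_eq_true, Nat.ble_eq,
          List.any_eq_true, Bool.not_eq_true'] at h
        have hlen : i < V.length := by
          by_contra hc
          rw [List.getD_eq_default _ _ (not_lt.mp hc)] at hl
          simp at hl
        have hmem : v :: r ∈ V := by rw [← hl, List.getD_eq_getElem _ _ hlen]; exact List.getElem_mem _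
        have step : ∀ w : List ℕ, (∀ a ∈ w, i < a ∧ a < n) → ∀ u ∈ v :: r,
            act u (md.enc (ev sG w)) ∈ v :: r := by
          intro w
          induction w with
          | nil => intro _ u hu; rwa [ev_nil, md.enc_one, hone _ hmem u hu]
          | cons a w ihw =>
            intro hw u hu
            obtain ⟨ha1, ha2⟩ := hw a List.mem_cons_self
            rw [ev_cons, hact _ hmem u hu, hs]
            refine ihw (fun x hx => hw x (List.mem_cons_of_mem _ hx)) _ ?_
            obtain hle | ⟨z, hz, hze⟩ := h.2 u hu a ha2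
            · omega
            · rw [Nat.eq_of_beq_eq_true hze]; exact hz
        have h' := step w (fun a ha => by have := incW_letters _ _ w hw a ha; omega) v List.mem_cons_self
        rw [hwe, hs] at h'
        have hf : (v :: r).any (Nat.beq (act v (T.getD i md.one))) = true :=
          List.any_eq_true.mpr ⟨_, h', Nat.beq_refl _⟩
        simp only [List.any_cons, Bool.or_eq_false_iff] at h
        rw [List.any_cons, h.1.1, h.1.2] at hf
        simp at hf
    have hinv : ∀ x ∈ S, x⁻¹ ∈ S := fun x hx => by
      have h1 : x⁻¹ = x ^ (orderOf x - 1) := inv_eq_of_mul_eq_one_right (by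
        rw [← pow_succ', Nat.sub_add_cancel (orderOf_pos x), pow_orderOf_eq_one])
      rw [h1]
      exact pow_mem hx _
    rw [incW, List.map_append, List.map_map,
      show (ev sG ∘ fun x => i :: x) = (sG i * ·) ∘ ev sG from funext fun x => ev_cons _ _ _, ← List.map_map,
      List.nodup_append']
    refine ⟨hnd, hnd.map (mul_right_injective _), fun y hy hy' => hnot ?_⟩
    obtain ⟨w, hw, rfl⟩ := List.mem_map.mp hy
    obtain ⟨_, hv, he⟩ := List.mem_map.mp hy'
    obtain ⟨v, hv', rfl⟩ := List.mem_map.mp hv
    have : sG i = ev sG w * (ev sG v)⁻¹ := eq_mul_inv_of_mul_eq he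
    rw [this]
    exact mul_mem ⟨w, hw, rfl⟩ (hinv _ ⟨v, hv', rfl⟩)

theorem packN_digit {q : ℕ} : ∀ (n X : ℕ), X < q ^ n → packN q n (digit q X) = X := by
  intro n
  induction n with
  | zero => intro X hX; simp at hX; simp [packN, hX]
  | succ n ih =>
    intro X hX
    simp only [packN, forceN_eq]
    have hq : 0 < q := Nat.pos_of_ne_zero fun h => by subst h; simp at hX
    have h1 : (fun k => digit q X (k + 1)) = digit q (X / q) := funext fun k => by
      rw [digit, digit, pow_succ', Nat.div_div_eq_div_mul]
    rw [h1, ih (X / q) (by rw [Nat.div_lt_iff_lt_mul hq]; rwa [← pow_succ]), digit, pow_zero, Nat.div_one]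
    exact Nat.mod_add_div X q

/-- A row vector is the code of a matrix. -/
theorem exists_code_eq {n v : ℕ} (hn : 0 < n) (hv : v < 2 ^ n) :
    ∃ M : Matrix (Fin n) (Fin n) (ZMod 2), BitMat.code M = v := by
  refine ⟨Matrix.of fun i j => ((if i.1 = 0 then digit 2 v j.1 else 0 : ℕ) : ZMod 2), ?_⟩
  have hb : v < (2 ^ n) ^ n := hv.trans_le (Nat.le_self_pow (by omega) _)
  conv_rhs => rw [← packN_digit n v hb]
  refine packN_congr _ _ _ fun i hi => ?_
  have he : (2 : ℕ) ^ n ≠ 0 := by positivity
  rcases Nat.eq_zero_or_pos i with rfl | hi0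
  · rw [show digit (2 ^ n) v 0 = v by simp [digit, Nat.mod_eq_of_lt hv]]
    conv_rhs => rw [← packN_digit n v hv]
    refine packN_congr _ _ _ fun j hj => ?_
    rw [BitMat.bit, dif_pos ⟨hi, hj⟩, Matrix.of_apply, if_pos rfl, ZMod.val_natCast_of_lt]
    exact Nat.mod_lt _ two_pos
  · have h0 : digit (2 ^ n) v i = 0 := by
      rw [digit, Nat.div_eq_of_lt (hv.trans_le (Nat.le_self_pow (by omega) _)), Nat.zero_mod]
    rw [h0]
    refine (packN_congr _ _ (fun _ => 0) fun j hj => ?_).trans (BitMat.packN_zero n)
    rw [BitMat.bit, dif_pos ⟨hi, hj⟩, Matrix.of_apply, if_neg (by show i ≠ 0; omega), Nat.cast_zero, ZMod.val_zero]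

end CfsgLib.TitsMult
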