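/-
An upper bound for the 3-part of the multiplier of the Tits group.
-/
import Cfsg.Agent.CentralCert.Upper

set_option autoImplicit false
set_option maxRecDepth 100000

namespace CfsgLib.TitsMult

open CfsgLib.CentralCert

/-- The certificate for the upper bound. -/
def upperThree : Upper where
  W := [
    [0, 7, 6, 7, 1, 6, 1, 7, 7, 7, 7, 1, 0, 6, 6, 6, 0, 2, 6, 7, 6, 1, 2, 0, 2, 6, 6, 6, 7, 7, 7, 7, 3, 0, 0, 7, 6, 7, 1, 6, 1, 7, 7, 7, 7, 1, 0, 6, 6, 6, 0],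
    [0, 7, 6, 7, 1, 6, 1, 7, 7, 7, 7, 1, 0, 6, 6, 6, 0, 0, 7, 6, 7, 1, 6, 1, 7, 7, 7, 7, 1, 0, 6, 6, 6, 0, 2, 6, 7, 6, 1, 2, 0, 2, 6, 6, 6, 7, 7, 7, 7, 3, 0],
    [0, 7, 6, 7, 1, 6, 1, 7, 7, 7, 7, 1, 0, 6, 6, 6, 0, 0, 7, 6, 7, 1, 6, 1, 7, 7, 7, 7, 1, 0, 6, 6, 6, 0, 0, 7, 6, 7, 1, 6, 1, 7, 7, 7, 7, 1, 0, 6, 6, 6, 0, 0, 7, 6, 7, 1, 6, 1, 7, 7, 7, 7, 1, 0, 6, 6, 6, 0]]
  rels := [
    ([0, 0, 0], []),
    ([1, 1, 1], []),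
    ([2, 2, 2], []),
    ([1, 0], [0, 1, 2]),
    ([2, 0], [0, 2]),
    ([2, 1], [1, 2])]
  NF := [
    [],
    [2],
    [2, 2],
    [1],
    [1, 2],
    [1, 2, 2],
    [1, 1],
    [1, 1, 2],
    [1, 1, 2, 2],
    [0],
    [0, 2],
    [0, 2, 2],
    [0, 1],
    [0, 1, 2],
    [0, 1, 2, 2],
    [0, 1, 1],
    [0, 1, 1, 2],
    [0, 1, 1, 2, 2],
    [0, 0],
    [0, 0, 2],
    [0, 0, 2, 2],
    [0, 0, 1],
    [0, 0, 1, 2],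
    [0, 0, 1, 2, 2],
    [0, 0, 1, 1],
    [0, 0, 1, 1, 2],
    [0, 0, 1, 1, 2, 2]]
  cons := [
    ([1], 0),
    ([2], 0),
    ([2], 1)]
  fus := [
    ⟨[1, 7, 2, 0, 6, 2, 6, 1], [[2], [0, 1, 1]], [[0, 1, 2, 2], [2, 2]], [0, 1], [1, 0]⟩,
    ⟨[7, 0, 1, 0, 3, 1, 2], [[1], [0]], [[1, 1, 2], [0, 0, 2]], [0, 1, 1, 0], [1, 0, 0, 1]⟩]
  K := [
    [(2, 1), (3, 3), (4, 3)],
    [(4, 3)],
    [(5, 3)],
    [(4, -3), (5, -4)],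
    [(2, 2), (3, 6), (4, 1), (5, 1)]]
  sec := [
    [(0, 1)],
    [(1, 1)],
    [(3, -1)]]
  C := [
    [(0, 1)],
    [(1, 1)],
    [(2, 3)],
    [(2, -1)],
    [],
    []]
  e := [
]
  d := []
  A := [
    [],
    [],
    [],
    [],
    [],
    []]
  sels := [
    [],
    [],
    [(0, -25), (3, 3), (4, 12), (1, 24)],
    [],
    [(3, -1), (4, -4), (0, 8), (1, -8)],
    [(4, -21), (0, 42), (3, -5), (1, -40)]]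
  dsels := [
]

end CfsgLib.TitsMult
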