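/-
An upper bound for the 2-part of the multiplier of the Tits group.
-/
import Cfsg.Agent.CentralCert.Upper
import Cfsg.Agent.TitsMult.PC

set_option autoImplicit false
set_option maxRecDepth 100000

namespace CfsgLib.TitsMult

open CfsgLib.CentralCert

/-- Part of the data. -/
def upperTwo_W0 : List (List ℕ) := [
    [0],
    [6],
    [2],
    [0, 6, 0, 6],
    [0, 2, 0, 2],
    [1, 0, 2, 0, 1]]

/-- Part of the data. -/
def upperTwo_W1 : List (List ℕ) := [
    [3, 7, 2, 0, 7, 7],
    [2, 6, 7, 0, 6, 7, 0, 7],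
    [6, 0, 2, 0, 6],
    [0, 2, 0, 2, 6, 6, 2],
    [0, 2, 6, 6, 0, 2, 6, 6]]

/-- Part of the data. -/
def upperTwo_rels0 : List (List ℕ × List ℕ) := [
    ([0, 0], []),
    ([1, 1], [2, 4, 9]),
    ([2, 2], []),
    ([3, 3], [5, 6, 9]),
    ([4, 4], [8, 10]),
    ([5, 5], [])]

/-- Part of the data. -/
def upperTwo_rels1 : List (List ℕ × List ℕ) := [
    ([6, 6], []),
    ([7, 7], []),
    ([8, 8], []),
    ([9, 9], []),
    ([10, 10], []),
    ([1, 0], [0, 1, 2, 3, 5, 9])]

/-- Part of the data. -/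
def upperTwo_rels2 : List (List ℕ × List ℕ) := [
    ([2, 0], [0, 2, 4, 8, 10]),
    ([3, 0], [0, 3, 4, 5, 7, 10]),
    ([4, 0], [0, 4, 8, 10]),
    ([5, 0], [0, 5]),
    ([6, 0], [0, 6, 7, 8]),
    ([7, 0], [0, 7])]

/-- Part of the data. -/
def upperTwo_rels3 : List (List ℕ × List ℕ) := [
    ([8, 0], [0, 8]),
    ([9, 0], [0, 9, 10]),
    ([10, 0], [0, 10]),
    ([2, 1], [1, 2, 6, 9, 10]),
    ([3, 1], [1, 3, 4, 5, 6, 8, 10]),
    ([4, 1], [1, 4, 6])]

/-- Part of the data. -/
def upperTwo_rels4 : List (List ℕ × List ℕ) := [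
    ([5, 1], [1, 5, 7, 8, 9]),
    ([6, 1], [1, 6, 8, 10]),
    ([7, 1], [1, 7, 8, 10]),
    ([8, 1], [1, 8, 9, 10]),
    ([9, 1], [1, 9]),
    ([10, 1], [1, 10])]

/-- Part of the data. -/
def upperTwo_rels5 : List (List ℕ × List ℕ) := [
    ([3, 2], [2, 3, 6, 10]),
    ([4, 2], [2, 4, 8, 10]),
    ([5, 2], [2, 5, 8, 9, 10]),
    ([6, 2], [2, 6]),
    ([7, 2], [2, 7, 9]),
    ([8, 2], [2, 8])]

/-- Part of the data. -/
def upperTwo_rels6 : List (List ℕ × List ℕ) := [
    ([9, 2], [2, 9]),
    ([10, 2], [2, 10]),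
    ([4, 3], [3, 4, 7, 8, 10]),
    ([5, 3], [3, 5, 8, 9, 10]),
    ([6, 3], [3, 6, 8, 9, 10]),
    ([7, 3], [3, 7, 9, 10])]

/-- Part of the data. -/
def upperTwo_rels7 : List (List ℕ × List ℕ) := [
    ([8, 3], [3, 8, 10]),
    ([9, 3], [3, 9]),
    ([10, 3], [3, 10]),
    ([5, 4], [4, 5, 10]),
    ([6, 4], [4, 6, 9, 10]),
    ([7, 4], [4, 7, 10])]

/-- Part of the data. -/
def upperTwo_rels8 : List (List ℕ × List ℕ) := [
    ([8, 4], [4, 8]),
    ([9, 4], [4, 9]),
    ([10, 4], [4, 10]),
    ([6, 5], [5, 6, 10]),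
    ([7, 5], [5, 7]),
    ([8, 5], [5, 8])]

/-- Part of the data. -/
def upperTwo_rels9 : List (List ℕ × List ℕ) := [
    ([9, 5], [5, 9]),
    ([10, 5], [5, 10]),
    ([7, 6], [6, 7]),
    ([8, 6], [6, 8]),
    ([9, 6], [6, 9]),
    ([10, 6], [6, 10])]

/-- Part of the data. -/
def upperTwo_rels10 : List (List ℕ × List ℕ) := [
    ([8, 7], [7, 8]),
    ([9, 7], [7, 9]),
    ([10, 7], [7, 10]),
    ([9, 8], [8, 9]),
    ([10, 8], [8, 10]),
    ([10, 9], [9, 10])]









/-- Part of the data. -/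
def upperTwo_cons0 : List (List ℕ × ℕ) := [
    ([1], 0),
    ([1], 1),
    ([1], 11),
    ([2], 0),
    ([2], 1),
    ([2], 11)]

/-- Part of the data. -/
def upperTwo_cons1 : List (List ℕ × ℕ) := [
    ([2], 12),
    ([2], 21),
    ([3], 0),
    ([3], 1),
    ([3], 2),
    ([3], 3)]

/-- Part of the data. -/
def upperTwo_cons2 : List (List ℕ × ℕ) := [
    ([3], 11),
    ([3], 12),
    ([3], 13),
    ([3], 21),
    ([3], 22),
    ([3], 30)]

/-- Part of the data. -/
def upperTwo_cons3 : List (List ℕ × ℕ) := [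
    ([4], 0),
    ([4], 1),
    ([4], 2),
    ([4], 3),
    ([4], 4),
    ([4], 11)]

/-- Part of the data. -/
def upperTwo_cons4 : List (List ℕ × ℕ) := [
    ([4], 13),
    ([4], 14),
    ([4], 21),
    ([4], 22),
    ([4], 23),
    ([4], 30)]

/-- Part of the data. -/
def upperTwo_cons5 : List (List ℕ × ℕ) := [
    ([4], 38),
    ([5], 0),
    ([5], 1),
    ([5], 2),
    ([5], 3),
    ([5], 4)]

/-- Part of the data. -/
def upperTwo_cons6 : List (List ℕ × ℕ) := [
    ([5], 11),
    ([5], 12),
    ([5], 13),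
    ([5], 14),
    ([5], 21),
    ([5], 22)]

/-- Part of the data. -/
def upperTwo_cons7 : List (List ℕ × ℕ) := [
    ([5], 23),
    ([5], 24),
    ([5], 30),
    ([5], 31),
    ([5], 32),
    ([5], 38)]

/-- Part of the data. -/
def upperTwo_cons8 : List (List ℕ × ℕ) := [
    ([5], 39),
    ([5], 45),
    ([6], 0),
    ([6], 1),
    ([6], 2),
    ([6], 3)]

/-- Part of the data. -/
def upperTwo_cons9 : List (List ℕ × ℕ) := [
    ([6], 4),
    ([6], 5),
    ([6], 11),
    ([6], 12),
    ([6], 13)]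

/-- Part of the data. -/
def upperTwo_fus0 : List Fus := [
    ⟨[3, 6, 1, 7, 6, 7, 0, 7], [[6], [9], [10], [8], [2], [7], [4, 5], [1, 3, 4]], [[7], [10], [5, 7, 9], [5, 8, 10], [5], [0, 2, 3, 4, 6, 8, 9], [2, 3, 8, 10], [2, 3, 4, 7]], [2, 5], [5, 2]⟩,
    ⟨[3, 6, 1, 7, 6, 7, 0, 7], [[6], [9], [10], [8], [2], [7], [4, 5], [1, 3, 4]], [[7], [10], [5, 7, 9], [5, 8, 10], [5], [0, 2, 3, 4, 6, 8, 9], [2, 3, 8, 10], [2, 3, 4, 7]], [0, 7], [7, 0]⟩]

/-- Part of the data. -/
def upperTwo_K0 : List ZForm := [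
    [(2, 1), (3, 1), (4, 1), (5, 2), (6, 1), (7, 1), (8, 3), (9, 4), (10, 8), (11, 2), (12, 1), (13, 1), (15, 1), (19, 1), (30, 1), (32, 1), (36, 1), (38, 1), (39, 1), (40, 1), (43, 1), (45, 2), (46, 2), (47, 1), (48, 2), (49, 2), (50, 1), (51, 2), (52, 2), (53, 1), (54, 2), (55, 3), (56, 1), (58, 1), (59, 3), (60, 1), (61, 1), (62, 2), (63, 3), (64, 3), (65, 5)],
    [(6, 1), (9, 1), (10, 1), (21, 1), (23, 1), (28, 1), (46, 1), (49, 1), (50, 1), (65, 1)],
    [(2, -1), (3, -1), (5, -2), (6, -2), (7, -1), (8, -2), (9, -4), (10, -4), (11, -2), (12, 1), (14, 1), (19, 1), (21, -1), (22, -1), (24, -1), (28, -1), (30, -1), (31, -1), (36, -1), (38, -1), (40, -2), (42, -1), (44, -1), (46, -1), (47, -1), (49, -1), (51, -1), (52, -2), (53, -2), (56, -2), (57, -3), (58, -2), (59, -4), (60, -2), (61, -1), (62, -1), (63, -3), (64, -2), (65, -4)],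
    [(4, 1), (8, 2), (10, 2), (12, 2), (14, 1), (18, 1), (20, 1), (48, 1), (50, 1), (64, 2)],
    [(6, 1), (8, 1), (9, 1), (10, 2), (21, 2), (25, 1), (28, 1), (29, 1), (31, 1), (36, 1), (57, 2), (58, 1), (59, 1), (65, 3)],
    [(10, 1), (16, 1), (19, 1), (20, 1), (23, -1), (27, -1), (29, -1), (30, 1), (31, -1), (32, 1), (35, -1), (38, -1), (43, -1), (44, -1), (45, 1), (48, 1), (49, -1), (51, 1), (52, -1), (53, -1), (54, -1), (55, 1), (58, 1), (59, 1), (61, 1), (63, 3), (65, -1)]]

/-- Part of the data. -/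
def upperTwo_K1 : List ZForm := [
    [(4, -1), (8, -2), (10, -2), (12, -2), (31, -1), (35, -1), (37, -1), (64, -2)],
    [(6, -1), (9, -1), (10, -1), (21, -2), (33, -1), (36, -1), (37, -1), (58, -1), (59, -1), (65, -1)],
    [(4, 1), (5, 1), (7, 1), (8, 1), (10, 3), (13, 2), (14, 1), (15, 1), (17, 1), (20, 1), (45, 1), (47, 1), (50, 1), (52, 1), (53, 1), (55, 2), (60, 1), (62, 1)],
    [(4, 1), (5, 1), (6, 1), (7, 1), (8, 3), (9, 1), (10, 4), (22, 2), (23, 1), (24, 1), (25, 1), (27, 1), (29, 1), (30, -1), (38, 1), (43, 1), (45, 1), (47, 2), (48, 2), (49, 2), (52, 2), (53, 1), (54, 1), (55, 2), (56, 2), (57, 1), (58, 2), (59, 4), (60, 2), (61, 1), (62, 2), (63, 4), (64, 4), (65, 4)],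
    [(6, 1), (10, 1), (30, 2), (33, 1), (37, 1), (59, 1)],
    [(8, 1), (9, 1), (10, 1), (39, 1), (40, 1), (43, 1), (57, 1), (58, 1), (59, 1), (63, 1), (64, 1), (65, 1)]]

/-- Part of the data. -/
def upperTwo_K2 : List ZForm := [
    [(6, -1), (10, 2), (14, 1), (15, 1), (16, 1), (18, 1), (20, 1), (23, -1), (24, -1), (26, -1), (29, -1), (30, -1), (39, 1), (40, -1), (43, 1), (44, -1), (46, 1), (47, 1), (48, 1), (49, 1), (51, 3), (52, 1), (53, 1), (54, 1), (55, 1), (56, 1), (57, 1), (58, -1), (59, 1), (60, 2), (61, 1), (62, 3), (63, 3), (64, 6), (65, 4)],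
    [(7, 1), (9, -2), (10, -2), (16, 1), (20, 1), (31, -1), (32, -1), (34, -1), (37, -1), (38, 1), (42, 1), (44, 1), (45, -1), (46, -2), (49, -1), (51, -1), (52, 1), (53, -1), (54, -1), (55, -1), (60, 2), (61, -1), (63, -2), (65, -2)],
    [(4, -1), (5, -1), (7, -1), (8, -1), (9, -2), (10, -5), (13, -2), (15, 1), (16, 1), (19, 1), (38, -1), (39, -1), (41, -1), (44, -1), (45, -1), (46, -2), (49, -1), (50, -1), (51, -2), (52, -1), (53, -2), (54, -1), (55, -2), (57, -1), (59, -2), (60, -1), (61, -2), (62, -2), (64, -2), (65, -4)],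
    [(25, 1), (29, 1), (31, -1), (32, -1), (33, -1), (35, -1), (37, -1), (40, 1), (43, 1), (44, 1), (48, 1), (50, -1), (58, 2), (63, 1), (64, 1), (65, 1)],
    [(4, -1), (5, -1), (6, -1), (8, -2), (9, -1), (10, -5), (22, -2), (24, 1), (25, 1), (28, 1), (38, -1), (39, -1), (40, -1), (42, -1), (44, -1), (45, -1), (46, -1), (47, -1), (49, -1), (51, -1), (52, -2), (53, -2), (55, -1), (56, -1), (59, -2), (60, -1), (62, -2), (64, -2), (65, -1)],
    [(6, -1), (10, -1), (30, -2), (32, 1), (33, 1), (36, 1), (40, -1), (44, -1), (59, 1), (63, -1), (65, 1)]]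

/-- Part of the data. -/
def upperTwo_K3 : List ZForm := [
    [(8, 1), (10, 1), (14, 2), (18, 1), (20, 1), (64, 1)],
    [(6, 1), (23, 2), (25, 1), (31, -1), (48, -1), (49, 1), (50, -1), (57, 2), (58, 2), (59, 2), (63, 1), (65, 1)],
    [(8, 1), (10, 1), (31, 2), (35, 1), (37, 1), (64, 1)],
    [(7, 1), (8, 1), (9, 1), (10, 3), (38, 2), (41, 1), (42, 1), (44, 1), (45, 1), (46, 1), (49, 1), (59, 1), (60, 1), (62, 1), (63, 1), (65, 2)],
    [(48, 1), (50, 1)],
    [(8, -1), (9, -1), (10, -2), (16, 1), (27, -1), (29, -1), (31, -1), (33, -1), (35, -1), (36, -1), (38, -1), (40, -1), (43, -1), (44, -1), (45, 1), (49, 1), (51, -1), (52, -1), (55, -1), (56, -1), (57, -1), (58, 1), (59, -2), (60, 1), (61, 1), (62, -1), (63, 2), (64, -1), (65, -1)]]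

/-- Part of the data. -/
def upperTwo_K4 : List ZForm := [
    [(17, 1), (18, 1), (20, 1), (42, -1), (44, -1), (45, 1), (52, -1), (60, -1), (62, -1)],
    [(8, -1), (10, -1), (14, -2), (18, 1), (20, 1), (48, -1), (50, -1), (64, -1)],
    [(9, 1), (10, 1), (27, 1), (29, 1), (33, -1), (46, 1), (49, 1), (50, 1), (57, -2), (59, -2)],
    [(26, 1), (27, 1), (29, 1), (40, -1), (45, 1), (47, -1), (48, 1), (49, -1), (50, 1), (51, -1), (52, -1), (56, -2), (57, -2), (58, 1), (59, -2), (60, -1), (62, -1), (63, 3), (65, -2)],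
    [(6, -1), (23, -2), (27, 1), (29, 1), (46, -1), (57, -2), (58, -1), (59, -1), (65, -1)],
    [(9, 1), (34, 1), (35, 1), (37, 1), (42, -1), (44, -1), (46, 1), (50, 1), (56, -1), (59, -1), (60, 1), (61, 1), (62, 1), (63, 1), (65, 1)]]

/-- Part of the data. -/
def upperTwo_K5 : List ZForm := [
    [(7, -1), (8, -1), (10, -1), (38, -2), (42, 1), (44, 1), (47, -1), (48, -1), (50, -1), (60, -1), (62, -2), (64, -1)],
    [(15, 2)],
    [(7, 1), (8, 1), (9, 1), (24, 2), (26, 1), (27, 1), (28, 1), (32, -1), (45, -1), (48, -1), (49, -1), (50, -1), (54, 1), (60, 1), (61, 1), (63, 1)],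
    [(8, 1), (9, 1), (10, 1), (32, 2), (35, 1), (36, 1), (37, 1), (63, 1), (64, 1), (65, 1)],
    [(8, 1), (9, 1), (10, 2), (39, 2), (42, 1), (43, 1), (44, 1), (51, 1), (54, 1), (63, 1), (64, 1), (65, 3)],
    [(10, 1), (45, 2), (50, 1), (53, 1), (55, 1)]]

/-- Part of the data. -/
def upperTwo_K6 : List ZForm := [
    [(8, -1), (9, -2), (10, -1), (17, 1), (18, 1), (19, 1), (32, -1), (34, -1), (35, -1), (36, -1), (39, -1), (41, -1), (43, -1), (44, -1), (52, -1), (53, -1), (55, -1), (60, -2), (61, -1), (62, -2), (63, 1), (64, -1), (65, -4)],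
    [(18, 1), (19, 1), (20, 1), (45, -1), (48, -1), (49, -1), (50, -1), (53, 1), (55, 1), (63, -1)],
    [(18, 1), (19, 1), (20, 1), (45, -1), (48, -1), (49, -1), (50, -1), (52, 1), (53, -1), (54, -1), (55, 1), (60, -1), (61, -1)],
    [(20, 1), (53, 1), (55, 1), (64, -1)],
    [(10, 1), (27, 1), (28, 1), (29, 1), (34, -1), (35, -1), (36, -1), (51, 1), (54, 1), (55, 1), (56, -1), (58, -1), (59, -1), (60, -1), (62, -1), (63, 1), (64, -1), (65, -1)],
    [(10, -1), (27, 1), (28, 1), (29, 1), (41, -1), (42, -1), (43, -1), (45, -1), (47, -1), (49, -1), (50, -1), (51, 1), (52, -1), (53, 1), (54, -1), (56, -1), (58, -1), (59, -1), (61, -1), (62, -2), (65, -1)]]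

/-- Part of the data. -/
def upperTwo_K7 : List ZForm := [
    [(29, 1), (47, -1), (48, -1), (49, -1), (51, 1), (56, -1), (57, -1), (58, -1), (64, 1), (65, 1)],
    [(7, -1), (8, -1), (9, -1), (24, -2), (52, -1), (53, -1), (54, -1), (60, -1), (61, -1), (63, -1)],
    [(35, 1), (36, 1), (37, 1), (42, -1), (43, -1), (44, -1), (51, 1), (55, 1), (59, -1), (65, 1)],
    [(37, 1), (48, -1), (49, -1), (50, -1), (53, 1), (55, 1), (63, -1)],
    [(8, -1), (9, -1), (10, -1), (32, -2), (53, -1), (54, -1), (55, -1), (63, -1), (64, -1), (65, -1)],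
    [(44, 1), (48, -1), (49, -1), (50, -1), (52, 1), (53, 1), (55, 1), (60, -1), (61, -1), (63, -1)]]

/-- Part of the data. -/
def upperTwo_K8 : List ZForm := [
    [(8, -1), (9, -1), (10, -1), (39, -2), (53, -1), (54, -1), (55, -1), (63, -1), (64, -1), (65, -1)],
    [(10, -1), (45, -2), (55, -1)],
    [(7, 1), (8, 1), (16, 2), (17, 1), (18, 1), (60, 1)],
    [(8, 1), (10, 1), (25, 2), (27, 1), (29, 1), (33, -1), (46, -1), (58, 1), (63, 2), (64, 1)],
    [(33, 2)],
    [(8, 1), (9, 1), (10, 1), (40, 2), (42, 1), (43, 1), (44, 1), (51, -1), (58, 1), (59, -1), (63, 1), (64, 1), (65, -1)]]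

/-- Part of the data. -/
def upperTwo_K9 : List ZForm := [
    [(9, 1), (10, 1), (46, 2), (49, 1), (50, 1), (57, 1), (59, 1), (65, 1)],
    [(10, 1), (51, 2), (55, 1)],
    [(8, -1), (9, -2), (10, -3), (18, 1), (20, 1), (26, -1), (27, -1), (33, -1), (34, -1), (35, -1), (36, -1), (37, -1), (40, -1), (41, -1), (42, -1), (44, -1), (51, -1), (52, -1), (58, 1), (60, -2), (62, -3), (63, 1), (64, -1), (65, -2)],
    [(9, -1), (10, -1), (34, -1), (35, -1), (46, -1), (47, -1), (48, -1), (49, -1), (57, 1), (59, 1), (60, 1), (61, -1), (63, -2), (64, 1)],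
    [(9, -1), (10, -2), (18, 1), (19, 1), (20, 1), (41, -1), (42, -1), (46, -1), (47, -1), (50, -1), (51, -1), (52, -1), (54, -1), (55, -1), (56, 1), (59, 1), (60, -1), (61, -3), (62, -2), (64, 2), (65, -1)],
    [(8, 1), (9, 2), (10, 3), (15, 1), (17, 1), (19, 1), (32, 1), (34, 1), (36, 1), (37, 1), (39, 1), (41, 1), (42, 1), (43, 1), (45, 1), (47, 1), (49, 1), (50, 1), (51, -1), (53, -1), (54, -1), (56, 1), (58, 1), (59, 1), (60, 1), (61, 1), (62, 1), (63, 1), (65, 3)]]

/-- Part of the data. -/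
def upperTwo_K10 : List ZForm := [
    [(8, -1), (10, -1), (25, -1), (34, 1), (40, -1), (41, 1), (42, -1), (43, 1), (44, -1), (46, -1), (47, 1), (49, -1), (63, -1), (64, -1)]]

/-- Part of the data. -/
def upperTwo_sec0 : List ZForm := [
    [(0, 1)],
    [(1, 1)],
    [(11, -1)],
    [(3, 1)],
    [(12, -1)],
    [(5, -1), (11, -2), (2, -1), (3, -1)]]

/-- Part of the data. -/
def upperTwo_sec1 : List ZForm := [
    [(13, 1), (12, -1), (5, -1), (11, -2), (2, -1), (3, -1)],
    [(16, -1)],
    [(8, -1), (12, -2), (4, -1)],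
    [(9, -1), (22, 1), (12, -1), (5, -1), (11, -2), (2, -1), (3, -1)],
    [(19, -1)]]

/-- Part of the data. -/
def upperTwo_C0 : List ZForm := [
    [(0, 1)],
    [(1, 1)],
    [(2, 2), (3, -1), (5, -3), (6, 2), (7, 2), (8, -4), (10, 12)],
    [(3, 1)],
    [(4, 2), (8, -3), (10, 6)],
    [(5, 2), (6, -2), (7, -2), (8, 4), (10, -12)]]

/-- Part of the data. -/
def upperTwo_C1 : List ZForm := [
    [(6, 2), (7, 2), (8, -4), (9, -6), (10, 12)],
    [(7, 2), (8, -2), (10, 6)],
    [(8, 2), (10, -6)],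
    [(9, 2)],
    [(10, 2)],
    [(2, -1)]]

/-- Part of the data. -/
def upperTwo_C2 : List ZForm := [
    [(4, -1)],
    [(4, -1), (5, -1), (6, 1)],
    [(8, -1), (10, 2)],
    [],
    [(7, -1)],
    []]

/-- Part of the data. -/
def upperTwo_C3 : List ZForm := [
    [],
    [(10, -1)],
    [],
    [(6, -1), (7, -1), (8, 2), (9, 2), (10, -7)],
    [(4, -1), (5, -1), (9, 3)],
    [(6, -1), (7, -1), (8, 2), (9, 3), (10, -6)]]

/-- Part of the data. -/
def upperTwo_C4 : List ZForm := [
    [(7, -1), (9, -1)],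
    [(8, -1), (10, 2)],
    [(8, -1), (10, 2)],
    [(9, -1), (10, -1)],
    [],
    []]

/-- Part of the data. -/
def upperTwo_C5 : List ZForm := [
    [(6, -1), (7, -1), (8, 2), (9, 3), (10, -7)],
    [(8, -1), (10, 2)],
    [(8, -1), (9, -1), (10, 2)],
    [],
    [(9, -1)],
    []]

/-- Part of the data. -/
def upperTwo_C6 : List ZForm := [
    [],
    [],
    [(7, -1), (10, -1)],
    [(8, -1), (9, -1), (10, 2)],
    [(8, -1), (9, -1), (10, 2)],
    [(9, -1), (10, -1)]]

/-- Part of the data. -/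
def upperTwo_C7 : List ZForm := [
    [(10, -1)],
    [],
    [],
    [(10, -1)],
    [(9, -1), (10, -1)],
    [(10, -1)]]

/-- Part of the data. -/
def upperTwo_C8 : List ZForm := [
    [],
    [],
    [],
    [(10, -1)],
    [],
    []]

/-- Part of the data. -/
def upperTwo_C9 : List ZForm := [
    [],
    [],
    [],
    [],
    [],
    []]

/-- Part of the data. -/
def upperTwo_C10 : List ZForm := [
    [],
    [],
    [],
    [],
    [],
    []]

/-- Part of the data. -/
def upperTwo_A0 : List ZForm := [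
    [],
    [],
    [],
    [],
    [],
    []]

/-- Part of the data. -/
def upperTwo_A1 : List ZForm := [
    [],
    [],
    [],
    [],
    [],
    []]

/-- Part of the data. -/
def upperTwo_A2 : List ZForm := [
    [],
    [],
    [],
    [],
    [],
    []]

/-- Part of the data. -/
def upperTwo_A3 : List ZForm := [
    [],
    [],
    [],
    [],
    [],
    []]

/-- Part of the data. -/
def upperTwo_A4 : List ZForm := [
    [],
    [],
    [],
    [],
    [],
    []]

/-- Part of the data. -/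
def upperTwo_A5 : List ZForm := [
    [],
    [],
    [],
    [],
    [],
    []]

/-- Part of the data. -/
def upperTwo_A6 : List ZForm := [
    [],
    [],
    [],
    [],
    [],
    []]

/-- Part of the data. -/
def upperTwo_A7 : List ZForm := [
    [],
    [],
    [],
    [],
    [],
    []]

/-- Part of the data. -/
def upperTwo_A8 : List ZForm := [
    [],
    [],
    [],
    [],
    [],
    []]

/-- Part of the data. -/
def upperTwo_A9 : List ZForm := [
    [],
    [],
    [],
    [],
    [],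
    []]

/-- Part of the data. -/
def upperTwo_A10 : List ZForm := [
    [],
    [],
    [],
    [],
    [],
    []]

/-- Part of the data. -/
def upperTwo_sels0 : List ZForm := [
    [],
    [],
    [(0, -8), (1, 152), (2, -8), (3, -2), (4, -75), (5, 22), (6, -13), (7, 5), (8, -24), (10, -22), (11, -38), (12, -18), (13, -1), (14, -29), (15, 42), (16, 4), (17, -2), (18, 30), (19, -15), (20, 31), (21, -51), (22, -226), (23, -40), (24, -45), (25, 4), (26, -92), (27, 37), (28, 59), (29, -35), (30, -30), (31, 43), (32, -74), (33, -62), (34, 123), (35, -16), (36, 44), (37, -21), (38, 30), (39, 79), (40, -48), (41, 33), (42, -40), (43, -59), (44, 88), (45, 21), (46, -65), (47, -70), (48, 78), (49, -49), (50, 32), (51, 48), (52, -16), (53, 1), (54, 77), (55, -117), (56, -19), (57, 34), (58, -35), (59, -7), (60, 52)],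
    [],
    [(0, 40), (1, 82), (2, 40), (3, -148), (4, -1), (5, 28), (6, -110), (7, 20), (8, -62), (9, 34), (10, -31), (11, -83), (12, -14), (13, 8), (14, -42), (15, -12), (16, 14), (17, -27), (18, 166), (19, -9), (20, -30), (21, -49), (22, -37), (23, -6), (24, -4), (25, 74), (26, -54), (27, 11), (28, 42), (29, -55), (30, -25), (31, 42), (32, -46), (33, -40), (34, 85), (35, 71), (36, 59), (37, -113), (38, 56), (39, 98), (40, -98), (41, 89), (42, -26), (43, -35), (44, 28), (45, 19), (46, -27), (47, -17), (48, 38), (49, 101), (50, 13), (51, 23), (52, 4), (53, 82), (54, 64), (55, -87), (56, -21), (57, 63), (58, -68), (59, -6), (60, 72)],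
    [(0, 8), (1, -152), (2, 8), (3, 2), (4, 75), (5, -22), (6, 13), (7, -5), (8, 24), (10, 22), (11, 38), (12, 18), (13, 1), (14, 29), (15, -42), (16, -4), (17, 2), (18, -30), (19, 15), (20, -31), (21, 51), (22, 226), (23, 40), (24, 45), (25, -4), (26, 92), (27, -37), (28, -59), (29, 35), (30, 30), (31, -43), (32, 74), (33, 62), (34, -123), (35, 16), (36, -44), (37, 21), (38, -30), (39, -79), (40, 48), (41, -33), (42, 40), (43, 59), (44, -88), (45, -21), (46, 65), (47, 70), (48, -78), (49, 49), (50, -32), (51, -48), (52, 16), (53, -1), (54, -77), (55, 117), (56, 19), (57, -34), (58, 35), (59, 7), (60, -52)]]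

/-- Part of the data. -/
def upperTwo_sels1 : List ZForm := [
    [(0, 8), (1, -70), (2, 4), (3, -13), (4, 55), (5, 7), (6, -13), (7, 18), (9, 66), (10, 24), (11, 155), (12, -5), (13, 36), (14, 3), (15, -121), (16, 67), (17, -1), (18, 72), (19, -101), (20, -115), (21, 11), (22, -71), (23, 13), (24, -2), (25, 65), (26, 68), (27, 29), (28, -104), (29, 18), (30, 19), (31, -20), (32, -55), (33, -61), (34, -76), (35, -82), (36, -4), (37, 57), (38, -150), (39, -75), (40, 27), (41, -20), (42, 27), (43, 12), (44, 2), (45, -3), (46, 35), (47, 159), (48, -13), (49, 36), (50, -28), (51, -12), (52, -39), (53, -5), (54, -39), (55, 112), (56, -21), (57, -44), (58, 29), (59, 34), (60, -58)],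
    [(0, 12), (1, 2), (2, 12), (3, 133), (4, 35), (5, -11), (6, 143), (7, 30), (8, 29), (9, 3), (10, -38), (11, 117), (12, 14), (13, 2), (14, 35), (15, -71), (16, -3), (17, -52), (18, -76), (19, 16), (20, 35), (21, 30), (22, 59), (23, 14), (24, -2), (25, 18), (26, 3), (27, 24), (28, 17), (29, -25), (30, 15), (31, -56), (32, 7), (33, 3), (34, -57), (35, -143), (36, -21), (37, 27), (38, -97), (39, -69), (40, -5), (41, -24), (42, 40), (43, -6), (44, 27), (45, 97), (46, 30), (47, 81), (48, 20), (49, -50), (50, -28), (51, -5), (52, 39), (53, -25), (54, 3), (55, 56), (56, 17), (57, -26), (58, 15), (59, 22), (60, -30)],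
    [(0, -40), (1, -82), (2, -40), (3, 148), (4, 1), (5, -28), (6, 110), (7, -20), (8, 62), (9, -34), (10, 31), (11, 83), (12, 14), (13, -8), (14, 42), (15, 12), (16, -14), (17, 27), (18, -166), (19, 9), (20, 30), (21, 49), (22, 37), (23, 6), (24, 4), (25, -74), (26, 54), (27, -11), (28, -42), (29, 55), (30, 25), (31, -42), (32, 46), (33, 40), (34, -85), (35, -71), (36, -59), (37, 113), (38, -56), (39, -98), (40, 98), (41, -89), (42, 26), (43, 35), (44, -28), (45, -19), (46, 27), (47, 17), (48, -38), (49, -101), (50, -13), (51, -23), (52, -4), (53, -82), (54, -64), (55, 87), (56, 21), (57, -63), (58, 68), (59, 6), (60, -72)],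
    [(0, 8), (1, 128), (2, 10), (3, 56), (4, -38), (5, 25), (6, 66), (7, 21), (8, -6), (9, -1), (10, -44), (11, -17), (12, -8), (13, 5), (14, -2), (15, 16), (16, -7), (17, -28), (18, -11), (19, 18), (20, 70), (21, -21), (22, -171), (23, -38), (24, -17), (25, 15), (26, -80), (27, 39), (28, 73), (29, -34), (30, -9), (31, 6), (32, -54), (33, -56), (34, 84), (35, -7), (36, 18), (37, -37), (38, 9), (39, 3), (40, -44), (41, 25), (42, -33), (43, -59), (44, 78), (45, 91), (46, -48), (47, -51), (48, 69), (49, 20), (50, 9), (51, 22), (52, 3), (53, -2), (54, 65), (55, -81), (56, -7), (57, 22), (58, -27), (59, -4), (60, 32)],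
    [(0, -42), (1, -110), (2, -42), (3, -127), (4, -35), (5, 5), (6, -169), (7, -69), (8, 46), (9, -54), (10, 76), (11, -162), (12, -1), (13, -14), (14, 25), (15, 144), (16, -33), (17, 106), (18, 9), (19, 30), (20, -26), (21, 33), (22, 56), (23, -41), (24, 60), (25, -53), (26, 43), (27, -48), (28, -54), (29, 90), (30, 21), (31, 4), (32, 58), (33, -15), (34, -11), (35, 293), (36, -83), (37, -12), (38, 145), (39, -107), (40, 116), (41, -38), (42, -63), (43, 36), (44, -86), (45, -100), (46, -51), (47, -169), (48, -86), (49, 168), (50, 13), (51, -48), (52, -71), (53, -37), (54, -76), (55, 6), (56, 11), (57, -20), (58, 38), (59, -36), (60, -44)],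
    []]

/-- Part of the data. -/
def upperTwo_sels2 : List ZForm := [
    [],
    [],
    [(0, 26), (1, 50), (2, 26), (3, -113), (4, 8), (5, 43), (6, -88), (7, 20), (8, 5), (9, 30), (10, -25), (11, 15), (12, -7), (13, 24), (14, 18), (15, -46), (16, 17), (17, -15), (18, 156), (19, -29), (20, -61), (21, -6), (22, -58), (23, -44), (24, 17), (25, 112), (26, -41), (27, 55), (28, -7), (29, -34), (30, 4), (31, -33), (32, -71), (33, -161), (34, 29), (35, 58), (36, -29), (37, -53), (38, -46), (39, -118), (40, -11), (41, 33), (42, -31), (43, -57), (44, 71), (45, 87), (46, -61), (47, 14), (48, 55), (49, 185), (50, -17), (51, 2), (52, -39), (53, 19), (54, 40), (55, -14), (56, -9), (57, -1), (58, -11), (59, 24), (60, -16)],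
    [(0, -66), (1, 58), (2, -66), (3, 118), (4, -97), (5, -44), (6, 52), (7, -35), (8, -25), (9, -31), (10, 47), (11, 19), (12, -11), (13, -28), (14, -58), (15, 77), (16, 2), (17, 46), (18, -155), (19, -39), (20, 37), (21, -52), (22, -163), (23, 25), (24, -97), (25, -147), (26, -14), (27, -25), (28, 2), (29, 23), (30, -44), (31, 86), (32, 1), (33, 117), (34, 60), (35, -181), (36, 77), (37, 140), (38, 17), (39, 232), (40, 12), (41, -42), (42, 23), (43, 25), (44, 13), (45, -171), (46, 15), (47, -26), (48, 14), (49, -394), (50, 58), (51, 65), (52, 6), (53, -48), (54, 9), (55, -63), (56, -13), (57, 4), (58, 13), (59, -13), (60, 42)],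
    [],
    [(1, -90), (3, -32), (4, 32), (5, 35), (6, -32), (7, -13), (8, 38), (9, 11), (10, 32), (11, -52), (12, -4), (13, 28), (14, 38), (15, 25), (16, 11), (17, 46), (18, 20), (19, 1), (20, -11), (21, 50), (22, -95), (23, -47), (24, 79), (25, 21), (26, 53), (27, -3), (28, -54), (29, 78), (30, 51), (31, -26), (32, -7), (33, -66), (34, -38), (35, 251), (36, -73), (37, -41), (38, 31), (39, -199), (40, 77), (41, -23), (42, -62), (43, 6), (44, -54), (45, 43), (46, -22), (47, -57), (48, -64), (49, 304), (50, -25), (51, -72), (52, -69), (53, -20), (54, -68), (55, 63), (56, -6), (57, -32), (58, 30), (59, -20), (60, -64)]]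

/-- Part of the data. -/
def upperTwo_sels3 : List ZForm := [
    [(0, 4), (1, -108), (2, 4), (3, -98), (4, 19), (5, -7), (6, -94), (7, -37), (8, -8), (9, -33), (10, 33), (11, -200), (12, 4), (13, -18), (14, -6), (15, 106), (16, -35), (17, 44), (18, -2), (19, 75), (20, 29), (21, 23), (22, 160), (23, 11), (24, 69), (25, -51), (26, 50), (27, -82), (28, 6), (29, 54), (30, 16), (31, 30), (32, 96), (33, 110), (34, -14), (35, 273), (36, -15), (37, -98), (38, 189), (39, 27), (40, 13), (41, 19), (42, -35), (43, 58), (44, -137), (45, -68), (46, 19), (47, -131), (48, -109), (49, 163), (50, 8), (51, -55), (52, 4), (53, 36), (54, -61), (55, -8), (56, 10), (57, 32), (58, -17), (59, -54), (60, 22)],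
    [],
    [(0, -18), (1, 80), (2, -18), (3, -29), (4, -50), (5, 19), (6, -47), (7, -1), (8, 2), (9, 12), (10, 6), (11, 50), (12, -13), (13, 11), (14, -7), (15, -7), (16, 21), (17, 16), (18, 56), (19, -60), (20, -44), (21, -30), (22, -174), (23, -36), (24, -40), (25, 27), (26, -46), (27, 49), (28, -17), (29, -14), (30, -17), (31, 7), (32, -78), (33, -112), (34, 55), (35, -59), (36, 3), (37, 49), (38, -59), (39, -17), (40, 14), (41, -5), (42, -18), (43, -46), (44, 88), (45, -6), (46, -57), (47, 7), (48, 67), (49, -44), (50, 13), (51, 38), (52, -45), (53, -24), (54, 40), (55, -37), (56, -16), (57, -12), (58, 9), (59, 22), (60, -8)],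
    [(0, -27), (1, -123), (2, -26), (4, 8), (5, -20), (6, -24), (7, -40), (8, 70), (9, -63), (10, 34), (11, -50), (12, 20), (13, -23), (14, 57), (15, 71), (16, -51), (17, 45), (18, -81), (19, 65), (20, 15), (21, 62), (22, 226), (23, -5), (24, 53), (25, -49), (26, 50), (27, -39), (28, -28), (29, 53), (30, 28), (31, -55), (32, 97), (33, 27), (34, -82), (35, 111), (36, -99), (37, 25), (38, 54), (39, -140), (40, 104), (41, -61), (43, 43), (44, -71), (45, -26), (46, -2), (47, -75), (48, -69), (49, 59), (50, -14), (51, -47), (52, -6), (53, -51), (54, -72), (55, 62), (56, 38), (57, -41), (58, 53), (59, -10), (60, -64)],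
    [(0, 8), (1, 128), (2, 10), (3, 56), (4, -38), (5, 25), (6, 66), (7, 21), (8, -6), (9, -1), (10, -44), (11, -17), (12, -8), (13, 5), (14, -2), (15, 16), (16, -7), (17, -28), (18, -11), (19, 18), (20, 70), (21, -21), (22, -171), (23, -38), (24, -17), (25, 15), (26, -80), (27, 39), (28, 73), (29, -34), (30, -9), (31, 6), (32, -54), (33, -56), (34, 84), (35, -7), (36, 18), (37, -37), (38, 9), (39, 3), (40, -44), (41, 25), (42, -33), (43, -59), (44, 78), (45, 91), (46, -48), (47, -51), (48, 69), (49, 20), (50, 9), (51, 22), (52, 3), (53, -2), (54, 65), (55, -81), (56, -7), (57, 22), (58, -27), (59, -4), (60, 32)],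
    [(0, -49), (1, -197), (2, -47), (3, -116), (4, 13), (5, -52), (6, -161), (7, -62), (8, 32), (9, -35), (10, 101), (11, 21), (12, 15), (13, -26), (14, 8), (15, 27), (16, -13), (17, 84), (18, -1), (19, -34), (20, -128), (21, 28), (22, 310), (23, 50), (24, 3), (25, -59), (26, 112), (27, -64), (28, -131), (29, 62), (31, -10), (32, 102), (33, 68), (34, -122), (35, -18), (36, -52), (37, 120), (38, -5), (39, -3), (40, 118), (41, -70), (42, 54), (43, 94), (44, -100), (45, -216), (46, 41), (47, 41), (48, -93), (49, -137), (50, 3), (51, -11), (52, -23), (53, -31), (54, -103), (55, 108), (56, 23), (57, -51), (58, 69), (59, 14), (60, -64)]]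

/-- Part of the data. -/
def upperTwo_sels4 : List ZForm := [
    [(0, -36), (1, 65), (2, -37), (3, -47), (4, -104), (5, 2), (6, -84), (7, -53), (8, 29), (9, -94), (10, 4), (11, -212), (12, -1), (13, -42), (14, 11), (15, 194), (16, -75), (17, 53), (18, -50), (19, 98), (20, 91), (21, -9), (22, 19), (23, -53), (24, 10), (25, -78), (26, -78), (27, -26), (28, 83), (29, 11), (30, -19), (31, 20), (32, 46), (33, 1), (34, 101), (35, 189), (36, -38), (37, -48), (38, 199), (39, 15), (40, 32), (41, -1), (42, -66), (43, -19), (44, 1), (45, -29), (46, -91), (47, -252), (48, 6), (49, 16), (50, 42), (51, 8), (52, -9), (53, -33), (54, 28), (55, -135), (56, 21), (57, 30), (58, -10), (59, -43), (60, 35)],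
    [(0, -42), (1, -48), (2, -42), (3, -161), (4, -48), (5, 4), (6, -204), (7, -51), (8, -38), (9, 19), (10, 98), (11, -73), (12, -25), (13, 8), (14, -59), (15, 67), (16, 40), (17, 103), (18, 91), (19, -95), (20, -111), (21, -42), (22, -167), (23, -8), (24, -21), (25, -42), (26, 44), (27, -31), (28, -99), (29, 70), (30, -17), (31, 91), (32, -31), (33, -3), (34, 42), (35, 123), (36, 37), (37, 47), (38, 61), (39, 103), (40, 48), (41, -3), (42, -38), (43, 32), (44, -45), (45, -208), (46, -20), (47, -40), (48, -46), (49, -18), (50, 40), (51, 12), (52, -87), (53, 7), (54, -42), (55, -19), (56, -37), (57, 4), (58, 10), (59, -18), (60, 8)],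
    [(0, 16), (1, -54), (2, 16), (3, -20), (4, 74), (5, 6), (6, -5), (7, 39), (8, 2), (9, 86), (10, 12), (11, 262), (13, 43), (14, 10), (15, -200), (16, 78), (17, -28), (18, 114), (19, -137), (20, -163), (21, 7), (22, -19), (23, 25), (24, -26), (25, 113), (26, 61), (27, 61), (28, -124), (29, -18), (30, 12), (31, -50), (32, -79), (33, -114), (34, -101), (35, -227), (36, -6), (37, 102), (38, -258), (39, -99), (40, 20), (41, -23), (42, 64), (43, -5), (44, 57), (45, 14), (46, 40), (47, 262), (48, 33), (49, -31), (50, -42), (51, 12), (52, -32), (53, -1), (54, -18), (55, 141), (56, -17), (57, -61), (58, 40), (59, 72), (60, -75)],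
    [(0, 26), (1, -61), (2, 25), (3, -47), (4, 45), (6, -22), (7, 2), (8, -27), (9, 12), (10, 1), (11, -83), (12, 1), (13, 2), (14, -14), (15, 7), (17, -5), (18, 24), (19, 30), (20, 10), (21, 9), (22, 81), (23, 23), (24, 41), (26, 38), (27, -42), (28, 5), (29, 16), (30, 12), (31, 20), (32, 40), (33, 76), (34, -19), (35, 125), (36, 18), (37, -78), (38, 76), (39, 37), (40, -31), (41, 32), (42, -7), (43, 33), (44, -82), (45, -9), (46, 40), (47, -16), (48, -62), (49, 117), (50, -6), (51, -35), (52, 18), (53, 49), (54, -29), (55, 13), (56, -3), (57, 28), (58, -26), (59, -26), (60, 24)],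
    [(0, -12), (1, -158), (2, -12), (3, -151), (4, 25), (5, -5), (6, -163), (7, -48), (8, -11), (9, -3), (10, 79), (11, -138), (12, -4), (13, -1), (14, -17), (15, 72), (16, 3), (17, 80), (18, 51), (19, -3), (20, -62), (21, 18), (22, 91), (23, 13), (24, 58), (25, -38), (26, 94), (27, -75), (28, -79), (29, 85), (30, 19), (31, 41), (32, 64), (33, 71), (34, -42), (35, 255), (36, -16), (37, -36), (38, 126), (39, 8), (40, 55), (41, -2), (42, -30), (43, 72), (44, -141), (45, -141), (46, 24), (47, -67), (48, -123), (49, 153), (50, 7), (51, -53), (52, -44), (53, 26), (54, -93), (55, 43), (56, -7), (57, 4), (58, 10), (59, -38), (60, -12)],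
    [(0, -2), (1, 10), (2, -2), (3, 54), (4, 6), (5, -22), (6, 52), (7, 12), (8, -1), (9, 3), (10, -11), (11, 95), (12, 7), (13, -7), (14, -2), (15, -52), (16, 4), (17, -27), (18, -31), (19, -17), (20, -12), (21, -6), (22, 66), (23, 30), (24, -36), (25, -2), (27, 10), (28, -3), (29, -30), (30, -13), (31, -13), (32, 4), (33, 22), (34, -27), (35, -176), (36, 16), (37, 57), (38, -77), (39, 43), (40, -13), (41, -13), (42, 49), (43, 5), (44, 27), (45, -8), (46, 28), (47, 83), (48, 26), (49, -160), (50, -3), (51, 27), (52, 31), (53, -8), (54, 13), (55, 22), (56, 7), (57, -11), (58, 8), (59, 24), (60, -2)]]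

/-- Part of the data. -/
def upperTwo_sels5 : List ZForm := [
    [(0, -13), (1, -23), (2, -11), (3, -93), (4, -32), (5, -2), (6, -102), (7, -38), (8, 3), (9, -48), (10, 22), (11, -166), (12, 1), (13, -24), (14, -3), (15, 116), (16, -44), (17, 44), (18, 5), (19, 60), (20, 28), (21, 1), (22, 97), (23, -13), (24, 29), (25, -45), (26, -9), (27, -45), (28, 25), (29, 24), (30, -5), (31, 23), (32, 58), (33, 38), (34, 34), (35, 183), (36, -19), (37, -53), (38, 152), (39, 25), (40, 19), (41, 11), (42, -37), (43, 17), (44, -53), (45, -61), (46, -30), (47, -143), (48, -39), (49, 67), (50, 21), (51, -14), (52, -6), (53, 10), (54, -13), (55, -57), (56, 12), (57, 26), (58, -10), (59, -34), (60, 24)],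
    [(0, 26), (1, 50), (2, 26), (3, -114), (4, 8), (5, 43), (6, -89), (7, 20), (8, 5), (9, 30), (10, -25), (11, 15), (12, -7), (13, 24), (14, 18), (15, -46), (16, 17), (17, -15), (18, 157), (19, -29), (20, -62), (21, -6), (22, -57), (23, -44), (24, 17), (25, 112), (26, -41), (27, 55), (28, -7), (29, -34), (30, 4), (31, -33), (32, -71), (33, -161), (34, 29), (35, 58), (36, -29), (37, -53), (38, -46), (39, -118), (40, -11), (41, 33), (42, -31), (43, -57), (44, 71), (45, 87), (46, -61), (47, 14), (48, 55), (49, 185), (50, -17), (51, 2), (52, -39), (53, 19), (54, 40), (55, -14), (56, -9), (57, -1), (58, -11), (59, 24), (60, -16)],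
    [(0, -12), (1, 91), (2, -13), (3, 241), (4, -16), (5, 18), (6, 227), (7, 36), (8, 24), (9, 29), (10, -29), (11, 157), (12, -8), (13, 30), (14, 18), (15, -60), (16, 36), (17, -30), (18, -132), (19, -42), (20, 71), (21, 7), (22, -344), (23, -34), (24, -33), (25, -10), (26, -27), (27, 67), (28, 13), (29, 9), (30, 18), (31, -19), (32, -92), (33, -60), (34, 15), (35, -152), (36, 5), (37, 80), (38, -140), (39, -79), (40, 12), (41, -44), (42, -7), (43, -49), (44, 91), (45, 118), (46, -5), (47, 63), (48, 62), (49, -61), (50, -12), (51, 9), (52, -17), (53, -66), (54, 22), (55, 22), (56, -17), (57, -40), (58, 26), (59, 16), (60, -35)],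
    [(0, 14), (1, -134), (2, 14), (3, -179), (4, 45), (5, 11), (6, -165), (7, -29), (8, 54), (9, -36), (10, 17), (11, -111), (12, 17), (13, -9), (14, 61), (15, 43), (16, -43), (17, 32), (18, 102), (19, 65), (20, -53), (21, 60), (22, 311), (23, -20), (24, 96), (25, 55), (26, 42), (27, -29), (28, -34), (29, 25), (30, 33), (31, -70), (32, 79), (33, -56), (34, -74), (35, 253), (36, -114), (37, -85), (38, 84), (39, -200), (40, 70), (41, -3), (42, -25), (43, 24), (44, -75), (45, 21), (46, -30), (47, -80), (48, -69), (49, 290), (50, -30), (51, -65), (52, -23), (53, 8), (54, -57), (55, 54), (56, 33), (57, -17), (58, 21), (59, -6), (60, -56)],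
    [(0, 16), (1, -65), (2, 15), (3, 138), (4, 70), (5, -15), (6, 153), (7, 30), (8, 7), (9, 32), (10, -12), (11, 125), (12, 10), (13, 16), (14, 15), (15, -95), (16, 25), (17, -40), (18, -85), (19, -12), (20, 15), (21, 34), (22, 23), (23, 38), (24, 10), (26, 62), (27, -1), (28, -26), (29, 12), (30, 27), (31, -30), (32, 13), (33, 61), (34, -91), (35, -113), (36, 3), (37, 37), (38, -102), (39, -37), (40, -1), (41, -27), (42, 46), (43, 29), (44, -32), (45, 50), (46, 79), (47, 126), (48, -31), (49, -27), (50, -32), (51, -27), (52, 31), (53, -8), (54, -40), (55, 103), (56, 2), (57, -29), (58, 19), (59, 12), (60, -34)],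
    [(0, 44), (1, -36), (2, 44), (3, 104), (4, 70), (5, -17), (6, 148), (7, 30), (8, 18), (9, -25), (10, -67), (11, -23), (12, 26), (13, -17), (14, 40), (15, -24), (16, -47), (17, -76), (18, -91), (19, 118), (20, 108), (21, 49), (22, 264), (23, 34), (24, 51), (25, 5), (26, 7), (27, -27), (28, 83), (29, -34), (30, 23), (31, -58), (32, 90), (33, 99), (34, -64), (35, 2), (36, -24), (37, -89), (38, 35), (39, -41), (40, -48), (41, 15), (42, 33), (43, 19), (44, -52), (45, 132), (46, 56), (47, 1), (48, -31), (49, 68), (50, -33), (51, -41), (52, 93), (53, 24), (54, -5), (55, 31), (56, 37), (57, 16), (58, -21), (59, -12), (60, 10)]]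

/-- Part of the data. -/
def upperTwo_sels6 : List ZForm := [
    [(0, -14), (1, 62), (2, -14), (3, -2), (4, -45), (5, 25), (6, -16), (7, -7), (8, -17), (9, 12), (10, 14), (11, -47), (12, -19), (13, 14), (14, -24), (15, 45), (16, 19), (17, 30), (18, 9), (19, -29), (20, 16), (21, -26), (22, -254), (23, -38), (24, -11), (25, -17), (26, -28), (27, 14), (28, 5), (29, 25), (30, -4), (31, 46), (32, -59), (33, -39), (34, 76), (35, 81), (36, 25), (37, -6), (38, 36), (39, 24), (41, 9), (42, -52), (43, -27), (44, 25), (45, -13), (46, -40), (47, -63), (48, 17), (49, 43), (50, 21), (51, 8), (52, -45), (53, -7), (54, 16), (55, -56), (56, -26), (57, 12), (58, -10), (59, -18), (60, 18)],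
    [(0, -30), (1, 64), (2, -30), (3, 25), (4, -39), (5, 5), (6, -5), (7, 8), (8, -12), (9, 46), (10, 28), (11, 173), (12, -17), (13, 24), (14, -27), (15, -75), (16, 61), (17, 16), (18, 35), (19, -133), (20, -92), (21, -42), (22, -253), (23, -9), (24, -80), (25, 18), (26, -11), (27, 60), (28, -72), (29, -6), (30, -22), (31, 21), (32, -108), (33, -97), (34, 23), (35, -216), (36, 36), (37, 138), (38, -165), (39, 31), (40, 21), (41, -29), (42, 20), (43, -31), (44, 101), (45, -58), (46, -18), (47, 123), (48, 73), (49, -187), (50, 12), (51, 58), (52, -52), (53, -36), (54, 26), (55, 14), (56, -31), (57, -36), (58, 29), (59, 44), (60, -24)],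
    [(0, -38), (1, -12), (2, -38), (3, 146), (4, -47), (5, -46), (6, 108), (7, -34), (8, 43), (9, -93), (10, -2), (11, -71), (12, 19), (13, -51), (14, 24), (15, 118), (16, -74), (17, 12), (18, -217), (19, 109), (20, 131), (21, 26), (22, 160), (23, 15), (24, -5), (25, -132), (26, -11), (27, -50), (28, 70), (29, 16), (30, -5), (31, -9), (32, 109), (33, 138), (34, -10), (35, -26), (36, -28), (37, 36), (38, 102), (39, 46), (40, 36), (41, -50), (42, 17), (43, 35), (44, -44), (45, -28), (46, 13), (47, -121), (48, -31), (49, -182), (50, 20), (51, -2), (52, 58), (53, -57), (54, -17), (55, -31), (56, 40), (57, -2), (58, 19), (59, -30), (60, 9)],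
    [(0, -28), (1, -71), (2, -29), (3, 84), (4, 6), (5, -37), (6, 54), (7, -15), (8, 29), (9, -20), (10, 27), (11, 83), (12, 12), (13, -14), (14, 15), (15, -12), (16, -5), (17, 13), (18, -102), (19, -8), (20, -10), (21, 23), (22, 103), (23, 32), (24, -17), (25, -54), (26, 49), (27, -18), (28, -41), (29, 23), (30, 4), (31, -20), (32, 46), (33, 62), (34, -74), (35, -124), (36, -20), (37, 97), (38, -55), (39, -2), (40, 53), (41, -58), (42, 48), (43, 42), (44, -28), (45, -57), (46, 42), (47, 54), (48, -29), (49, -163), (50, -4), (52, 15), (53, -45), (54, -44), (55, 69), (56, 16), (57, -39), (58, 43), (59, 12), (60, -39)],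
    [(0, 58), (1, 5), (2, 57), (3, -54), (4, 73), (5, -20), (6, 2), (7, 47), (8, -62), (9, 46), (10, -51), (11, 71), (12, 9), (13, -2), (14, -33), (15, -129), (16, 18), (17, -88), (18, 100), (19, -9), (20, -49), (21, -27), (22, 228), (23, 76), (24, -24), (25, 75), (26, 4), (27, -4), (28, 22), (29, -90), (30, -25), (32, 14), (33, 64), (34, -33), (35, -182), (36, 73), (37, -48), (38, -65), (39, 142), (40, -120), (41, 67), (42, 78), (43, 13), (44, -1), (45, 18), (46, 75), (47, 159), (48, 21), (49, -93), (50, -15), (51, 28), (52, 83), (53, 90), (54, 41), (55, 16), (56, 1), (57, 41), (58, -52), (59, 28), (60, 55)],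
    [(0, 2), (1, -91), (2, 1), (3, 105), (4, 49), (5, -38), (6, 106), (7, 3), (8, 3), (9, -6), (10, 5), (11, 43), (12, 15), (13, -11), (14, 4), (15, -28), (16, -6), (17, -18), (18, -115), (19, 27), (20, 32), (21, 29), (22, 151), (23, 56), (24, 8), (25, -53), (26, 66), (27, -43), (28, -10), (29, 19), (30, 13), (31, -9), (32, 73), (33, 136), (34, -85), (35, -78), (36, 8), (37, 31), (38, -15), (39, 41), (40, 3), (41, -27), (42, 52), (43, 59), (44, -77), (45, -24), (46, 85), (47, 62), (48, -61), (49, -99), (50, -13), (51, -23), (52, 51), (53, -3), (54, -51), (55, 74), (56, 15), (57, -12), (58, 14), (59, -6), (60, -10)]]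

/-- Part of the data. -/
def upperTwo_sels7 : List ZForm := [
    [(0, 20), (1, -146), (2, 20), (3, -70), (4, 91), (5, -10), (6, -50), (7, 8), (8, -10), (9, 50), (10, 34), (11, 83), (12, 6), (13, 21), (15, -101), (16, 40), (17, 1), (18, 74), (19, -56), (20, -110), (21, 26), (22, 142), (23, 47), (24, 29), (25, 47), (26, 104), (27, -21), (28, -102), (29, 26), (30, 23), (31, -18), (32, 22), (33, 24), (34, -115), (35, -12), (36, -7), (37, 18), (38, -81), (39, -40), (40, 20), (41, -7), (42, 43), (43, 54), (44, -73), (45, -48), (46, 72), (47, 145), (48, -67), (49, 67), (50, -32), (51, -34), (52, -8), (53, 31), (54, -70), (55, 129), (56, -5), (57, -27), (58, 21), (59, 20), (60, -44)],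
    [(0, 6), (1, 64), (2, 6), (3, -3), (4, -17), (5, -42), (6, 3), (7, 12), (8, -38), (9, -13), (10, -32), (11, 55), (12, 9), (13, -33), (14, -35), (15, -38), (16, -16), (17, -51), (18, 5), (19, 4), (20, -11), (21, -46), (22, 197), (23, 61), (24, -75), (25, -8), (26, -42), (27, -5), (28, 46), (29, -88), (30, -53), (31, 16), (32, 27), (33, 74), (34, 16), (35, -262), (36, 67), (37, 36), (38, -34), (39, 200), (40, -79), (41, 27), (42, 78), (43, 5), (44, 42), (45, -54), (46, 32), (47, 76), (48, 56), (49, -308), (50, 20), (51, 71), (52, 80), (53, 31), (54, 63), (55, -49), (56, 13), (57, 32), (58, -30), (59, 26), (60, 62)],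
    [(0, -52), (1, -112), (2, -52), (3, -134), (4, -38), (5, -20), (6, -186), (7, -68), (8, 20), (9, -38), (10, 93), (11, -80), (12, -2), (13, -19), (14, -6), (15, 98), (16, -12), (17, 103), (18, 20), (19, -24), (20, -83), (21, 5), (22, 90), (23, -1), (24, 8), (25, -64), (26, 58), (27, -50), (28, -88), (29, 71), (30, -4), (31, 27), (32, 52), (33, 20), (34, -25), (35, 123), (36, -38), (37, 61), (38, 79), (39, 5), (40, 101), (41, -43), (42, -14), (43, 54), (44, -73), (45, -185), (46, -18), (47, -76), (48, -71), (49, -30), (50, 24), (51, -9), (52, -57), (53, -30), (54, -70), (55, 20), (56, 4), (57, -23), (58, 42), (59, -14), (60, -32)],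
    [(0, 44), (1, -36), (2, 44), (3, 102), (4, 70), (5, -17), (6, 146), (7, 30), (8, 18), (9, -25), (10, -67), (11, -23), (12, 26), (13, -17), (14, 40), (15, -24), (16, -47), (17, -76), (18, -90), (19, 118), (20, 107), (21, 49), (22, 266), (23, 34), (24, 51), (25, 5), (26, 7), (27, -27), (28, 83), (29, -34), (30, 23), (31, -58), (32, 90), (33, 99), (34, -64), (35, 2), (36, -24), (37, -88), (38, 35), (39, -41), (40, -48), (41, 15), (42, 33), (43, 19), (44, -52), (45, 131), (46, 56), (47, 1), (48, -31), (49, 68), (50, -33), (51, -41), (52, 93), (53, 24), (54, -5), (55, 31), (56, 37), (57, 16), (58, -21), (59, -12), (60, 10)],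
    [(0, 76), (1, 15), (2, 75), (3, -57), (4, 83), (5, -10), (6, 18), (7, 53), (8, -82), (9, 49), (10, -66), (11, -6), (12, 6), (14, -44), (15, -105), (16, 12), (17, -98), (18, 99), (19, 25), (20, -3), (21, -29), (22, 204), (23, 74), (24, -1), (25, 70), (26, -3), (27, -21), (28, 59), (29, -87), (30, -20), (31, 20), (32, 23), (33, 100), (34, -7), (35, -84), (36, 92), (37, -116), (38, 4), (39, 171), (40, -155), (41, 97), (42, 55), (43, 13), (44, -30), (45, 44), (46, 81), (47, 112), (48, 3), (49, -4), (50, -13), (51, 11), (52, 95), (53, 120), (54, 45), (55, -14), (56, -4), (57, 70), (58, -80), (59, 4), (60, 86)],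
    [(0, 6), (1, -74), (2, 6), (3, 16), (4, 20), (5, -51), (6, 22), (7, -20), (8, 17), (9, -76), (10, -19), (11, -104), (12, 29), (13, -54), (14, 20), (15, 68), (16, -79), (17, -21), (18, -101), (19, 131), (20, 78), (21, 32), (22, 419), (23, 54), (24, 28), (25, -67), (26, 16), (27, -75), (28, 67), (29, -19), (30, -5), (31, -24), (32, 154), (33, 167), (34, -55), (35, 13), (36, -22), (37, -47), (38, 124), (39, 67), (40, -14), (41, -1), (42, 45), (43, 59), (44, -94), (45, -23), (46, 49), (47, -71), (48, -61), (49, -87), (50, 1), (51, -18), (52, 95), (53, 14), (54, -23), (55, -4), (56, 50), (57, 25), (58, -11), (59, -24), (60, 28)]]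

/-- Part of the data. -/
def upperTwo_sels8 : List ZForm := [
    [(0, -4), (1, -46), (2, -4), (3, -181), (5, -10), (6, -185), (7, -21), (8, -21), (9, 8), (10, 37), (11, -9), (12, -2), (13, -7), (14, -23), (15, -11), (16, 10), (17, 29), (18, 136), (19, -47), (20, -121), (21, -24), (22, 143), (23, 22), (24, -15), (25, 32), (26, 21), (27, -14), (28, -60), (29, -12), (30, -23), (31, 16), (32, 9), (33, -21), (34, -12), (35, -8), (36, 8), (37, 16), (38, -1), (39, 56), (40, 7), (41, 16), (42, 21), (43, 21), (44, -13), (45, -115), (46, -4), (47, 37), (48, -8), (49, -40), (50, 10), (51, 22), (52, -18), (53, 31), (54, -6), (55, 6), (56, -3), (57, 5), (59, 18), (60, 4)],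
    [(0, -64), (1, 42), (2, -64), (3, 5), (4, -110), (5, -33), (6, -59), (7, -57), (8, 27), (9, -85), (10, 34), (11, -73), (12, 2), (13, -48), (14, -5), (15, 140), (16, -53), (17, 59), (18, -94), (19, 32), (20, 33), (21, -22), (22, 47), (23, -12), (24, -50), (25, -109), (26, -46), (27, -23), (28, 26), (29, 8), (30, -37), (31, 26), (32, 45), (33, 36), (34, 56), (35, -40), (36, -13), (37, 81), (38, 88), (39, 89), (40, 54), (41, -42), (42, -3), (43, 7), (44, 19), (45, -122), (46, -51), (47, -134), (48, 18), (49, -242), (50, 48), (51, 46), (52, -1), (53, -61), (54, 15), (55, -85), (56, 20), (57, -1), (58, 22), (59, -12), (60, 16)],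
    [(0, 4), (1, 46), (2, 4), (3, 181), (5, 10), (6, 185), (7, 21), (8, 21), (9, -8), (10, -37), (11, 9), (12, 2), (13, 7), (14, 23), (15, 11), (16, -10), (17, -29), (18, -136), (19, 47), (20, 121), (21, 24), (22, -144), (23, -22), (24, 15), (25, -32), (26, -21), (27, 14), (28, 60), (29, 12), (30, 23), (31, -16), (32, -9), (33, 21), (34, 12), (35, 8), (36, -8), (37, -16), (38, 1), (39, -56), (40, -7), (41, -16), (42, -21), (43, -21), (44, 13), (45, 115), (46, 4), (47, -37), (48, 8), (49, 40), (50, -10), (51, -22), (52, 18), (53, -31), (54, 6), (55, -6), (56, 3), (57, -5), (59, -18), (60, -4)],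
    [(0, -38), (1, -36), (2, -38), (3, -175), (4, -60), (5, -5), (6, -213), (7, -59), (8, -18), (9, -26), (10, 73), (11, -137), (12, -13), (13, -17), (14, -37), (15, 113), (16, -7), (17, 90), (18, 72), (19, -24), (20, -67), (21, -31), (23, -10), (24, -7), (25, -50), (26, 12), (27, -43), (28, -46), (29, 44), (30, -23), (31, 65), (32, 19), (33, 12), (34, 48), (35, 151), (36, 8), (37, 10), (38, 123), (39, 89), (40, 43), (41, 3), (42, -36), (43, 28), (44, -47), (45, -178), (46, -38), (47, -109), (48, -40), (49, -16), (50, 41), (51, 12), (52, -53), (53, 6), (54, -24), (55, -54), (56, -11), (57, 17), (58, 2), (59, -24), (60, 20)],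
    [(0, -46), (1, -24), (2, -46), (3, 10), (4, -50), (5, -14), (6, -36), (7, -39), (8, 1), (9, -19), (10, 58), (11, -33), (12, -9), (13, -9), (14, -22), (15, 73), (16, 4), (17, 65), (18, -61), (19, -28), (20, -7), (21, -12), (22, -105), (23, -4), (24, -22), (25, -83), (26, 23), (27, -26), (28, -38), (29, 55), (30, -8), (31, 47), (32, 7), (33, 42), (34, 18), (35, 27), (36, 10), (37, 70), (38, 42), (39, 61), (40, 53), (41, -36), (42, -15), (43, 27), (44, -29), (45, -122), (46, -5), (47, -53), (48, -31), (49, -104), (50, 29), (51, 8), (52, -36), (53, -35), (54, -33), (55, -11), (56, -10), (57, -11), (58, 24), (59, -18), (60, -4)],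
    [(0, -4), (1, -46), (2, -4), (3, -181), (5, -10), (6, -185), (7, -21), (8, -21), (9, 8), (10, 37), (11, -9), (12, -2), (13, -7), (14, -23), (15, -11), (16, 10), (17, 29), (18, 136), (19, -47), (20, -121), (21, -24), (22, 144), (23, 22), (24, -15), (25, 32), (26, 21), (27, -14), (28, -60), (29, -12), (30, -23), (31, 16), (32, 9), (33, -21), (34, -12), (35, -9), (36, 8), (37, 16), (38, -1), (39, 56), (40, 7), (41, 16), (42, 21), (43, 21), (44, -13), (45, -115), (46, -4), (47, 37), (48, -8), (49, -41), (50, 10), (51, 22), (52, -18), (53, 31), (54, -6), (55, 6), (56, -3), (57, 5), (59, 18), (60, 4)]]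

/-- Part of the data. -/
def upperTwo_sels9 : List ZForm := [
    [(0, -14), (1, -162), (2, -14), (3, -107), (4, 41), (5, -50), (6, -121), (7, -33), (8, -16), (9, -3), (10, 66), (11, 12), (12, 11), (13, -20), (14, -23), (15, -15), (16, 4), (17, 37), (18, 27), (19, -29), (20, -107), (21, 6), (22, 294), (23, 76), (24, -3), (25, -36), (26, 102), (27, -69), (28, -92), (29, 27), (30, -9), (31, 18), (32, 90), (33, 120), (34, -100), (35, -45), (36, 10), (37, 57), (38, 6), (39, 99), (40, 32), (41, -19), (42, 65), (43, 92), (44, -109), (45, -182), (46, 77), (47, 79), (48, -88), (49, -133), (50, 3), (51, -5), (52, 16), (53, 23), (54, -75), (55, 84), (56, 10), (57, -11), (58, 22), (59, 6), (60, -12)],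
    [(0, -14), (1, -26), (2, -14), (3, 101), (4, -11), (5, -37), (6, 87), (7, -17), (8, 36), (9, -70), (10, -16), (11, -48), (12, 21), (13, -40), (14, 29), (15, 68), (16, -63), (17, -10), (18, -150), (19, 100), (20, 98), (21, 31), (22, 213), (23, 21), (24, 10), (25, -78), (26, -3), (27, -40), (28, 60), (29, -2), (30, 1), (31, -27), (32, 100), (33, 109), (34, -31), (35, -23), (36, -31), (37, 4), (38, 71), (39, 13), (40, 16), (41, -30), (42, 25), (43, 30), (44, -42), (45, 8), (46, 21), (47, -73), (48, -28), (49, -106), (50, 3), (51, -10), (52, 62), (53, -31), (54, -14), (55, -7), (56, 39), (58, 10), (59, -18), (60, 4)],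
    [(0, -36), (2, -36), (3, 87), (4, -18), (5, 25), (6, 51), (8, 31), (9, 41), (10, 44), (11, 142), (12, -16), (13, 41), (14, 13), (15, -44), (16, 59), (17, 44), (18, -30), (19, -108), (20, -49), (21, 9), (22, -344), (23, -45), (24, -18), (25, 3), (26, 28), (27, 55), (28, -92), (29, 62), (30, 24), (31, -7), (32, -100), (33, -117), (34, -13), (35, -45), (36, -26), (37, 119), (38, -140), (39, -132), (40, 87), (41, -64), (42, -25), (43, -24), (44, 56), (45, 1), (46, -25), (47, 66), (48, 20), (49, 15), (50, -9), (51, -4), (52, -91), (53, -72), (54, -31), (55, 67), (56, -29), (57, -67), (58, 59), (59, 22), (60, -78)],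
    [(0, -84), (1, 10), (2, -84), (3, -81), (4, -126), (5, -14), (6, -165), (7, -79), (8, 35), (9, -70), (10, 82), (11, -81), (12, -10), (13, -31), (14, -7), (15, 157), (16, -28), (17, 115), (18, -26), (19, -25), (20, -39), (21, -24), (22, -71), (23, -42), (24, -41), (25, -96), (26, -23), (27, -14), (28, -43), (29, 52), (30, -29), (31, 38), (32, 7), (33, -40), (34, 61), (35, 56), (36, -36), (37, 108), (38, 81), (39, 26), (40, 111), (41, -58), (42, -37), (43, 5), (44, 18), (45, -178), (46, -85), (47, -149), (48, 4), (49, -154), (50, 52), (51, 37), (52, -72), (53, -77), (54, -13), (55, -67), (56, 3), (57, -23), (58, 46), (59, -10), (60, -18)],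
    [(0, -12), (1, 48), (2, -12), (3, 48), (4, -32), (5, 5), (6, 36), (7, -2), (8, 42), (9, -33), (10, -22), (11, 15), (12, 6), (13, -9), (14, 36), (15, 24), (16, -27), (17, -6), (18, -40), (19, 30), (20, 37), (21, 13), (22, -1), (23, -32), (24, -3), (25, 2), (26, -45), (27, 29), (28, 32), (29, -16), (30, 1), (31, -41), (32, -6), (33, -62), (34, 14), (35, -26), (36, -46), (37, 17), (38, -15), (39, -87), (40, 28), (41, -23), (42, -9), (43, -33), (44, 55), (45, 64), (46, -45), (47, -45), (48, 42), (49, -9), (50, -3), (51, 8), (52, -1), (53, -43), (54, 25), (55, -21), (56, 17), (57, -18), (58, 17), (59, 10), (60, -22)],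
    [(0, 4), (1, 100), (2, 4), (3, 97), (4, -18), (5, 17), (6, 101), (7, 30), (8, -19), (9, 33), (10, -27), (11, 75), (12, -12), (13, 20), (14, -17), (15, -44), (16, 31), (17, -29), (18, -23), (19, -40), (20, 30), (21, -26), (22, -242), (23, -16), (24, -38), (25, 12), (26, -41), (27, 45), (28, 24), (29, -20), (30, -7), (31, 17), (32, -79), (33, -40), (34, 51), (35, -105), (36, 43), (37, 23), (38, -72), (39, 29), (40, -38), (41, 8), (42, -7), (43, -43), (44, 74), (45, 58), (46, -9), (47, 44), (48, 61), (49, -55), (50, 4), (51, 27), (52, -5), (53, -7), (54, 45), (55, -29), (56, -22), (57, 3), (58, -12), (59, 10), (60, 16)]]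

/-- Part of the data. -/
def upperTwo_sels10 : List ZForm := [
    [(0, 16), (1, 154), (2, 16), (3, -5), (4, -29), (5, 47), (6, 11), (7, 40), (8, -7), (9, 45), (10, -46), (11, 98), (12, -16), (13, 32), (14, 1), (15, -74), (16, 37), (17, -37), (18, 106), (19, -65), (20, -29), (21, -36), (22, -261), (23, -54), (24, -38), (25, 100), (26, -88), (27, 96), (28, 19), (29, -58), (30, -13), (31, -16), (32, -136), (33, -187), (34, 80), (35, -96), (36, 12), (37, 3), (38, -119), (39, -65), (40, -37), (41, 27), (42, -25), (43, -95), (44, 152), (45, 115), (46, -72), (47, 52), (48, 123), (49, 43), (50, -5), (51, 43), (52, -37), (53, -3), (54, 88), (55, -51), (56, -24), (57, -3), (58, -14), (59, 38)],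
    [(0, -60), (1, 10), (2, -60), (3, 149), (4, -54), (5, -19), (6, 89), (7, -19), (8, 15), (9, 1), (10, 52), (11, 116), (12, -10), (13, 5), (14, -15), (15, 9), (16, 31), (17, 47), (18, -137), (19, -77), (20, -1), (21, -11), (22, -246), (23, -3), (24, -62), (25, -90), (26, 23), (27, 13), (28, -57), (29, 53), (30, -5), (31, 31), (32, -40), (33, 17), (34, -1), (35, -155), (36, 18), (37, 163), (38, -87), (39, 38), (40, 68), (41, -75), (42, 12), (43, 11), (44, 29), (45, -91), (46, 9), (47, 40), (48, 9), (49, -235), (50, 21), (51, 28), (52, -39), (53, -79), (54, -26), (55, 28), (56, -17), (57, -47), (58, 52), (59, 8), (60, -34)],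
    [(0, -16), (1, 86), (2, -16), (3, 96), (4, -39), (5, 3), (6, 80), (7, 12), (8, -2), (9, 9), (10, -11), (11, 79), (12, -8), (13, 7), (14, -10), (15, -18), (16, 17), (17, -10), (18, -49), (19, -37), (20, 22), (21, -23), (22, -187), (23, -14), (24, -49), (25, -14), (26, -39), (27, 38), (28, 13), (29, -14), (30, -13), (31, 11), (32, -58), (33, -34), (34, 41), (35, -133), (36, 26), (37, 62), (38, -69), (39, 29), (40, -7), (41, -15), (42, 3), (43, -33), (44, 74), (45, 18), (46, -17), (47, 28), (48, 59), (49, -128), (50, 11), (51, 36), (52, -7), (53, -31), (54, 37), (55, -27), (56, -12), (57, -10), (58, 6), (59, 14), (60, 4)],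
    [(0, 52), (1, -34), (2, 52), (3, 215), (4, 112), (5, 10), (6, 267), (7, 69), (8, 3), (9, 60), (10, -58), (11, 137), (12, 10), (13, 38), (14, 29), (15, -141), (16, 34), (17, -88), (18, -99), (19, 13), (20, 76), (21, 51), (22, -64), (23, 25), (24, 41), (25, 41), (26, 50), (27, 20), (28, 16), (29, 1), (30, 51), (31, -50), (32, -13), (33, 44), (34, -89), (35, -75), (36, 6), (37, -32), (38, -121), (39, -101), (40, -44), (41, -3), (42, 29), (43, 3), (44, -21), (45, 182), (46, 89), (47, 144), (48, -21), (49, 119), (50, -56), (51, -54), (52, 46), (53, 12), (54, -26), (55, 112), (56, -3), (57, -20), (58, -2), (59, 6), (60, -30)],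
    [(0, -36), (1, 8), (2, -36), (3, -109), (4, -61), (5, -28), (6, -145), (7, -39), (8, 17), (9, -50), (10, 27), (11, -7), (12, 6), (13, -36), (14, -1), (15, 50), (16, -32), (17, 35), (18, 42), (19, -7), (20, -67), (21, -23), (22, 183), (23, 7), (24, -45), (25, -19), (26, -28), (27, -5), (28, -17), (29, -28), (30, -39), (31, -4), (32, 31), (33, -24), (34, 12), (35, -91), (36, -20), (37, 69), (38, 11), (39, 53), (40, 37), (41, -19), (42, 28), (43, 5), (44, 33), (45, -113), (46, -40), (47, -29), (48, 31), (49, -191), (50, 26), (51, 50), (52, -1), (53, -24), (54, 20), (55, -38), (56, 20), (57, -7), (58, 19), (59, 22)],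
    [(0, 58), (1, -22), (2, 58), (3, 54), (4, 101), (5, -1), (6, 112), (7, 61), (8, 27), (9, 28), (10, -77), (11, 159), (12, 25), (13, 12), (14, 56), (15, -161), (16, -1), (17, -104), (18, 34), (19, 25), (20, -13), (21, 44), (22, 246), (23, 30), (24, 25), (25, 116), (26, 7), (27, 42), (28, 16), (29, -75), (30, 22), (31, -108), (32, 11), (33, -47), (34, -104), (35, -166), (36, -41), (37, -28), (38, -154), (39, -140), (40, -40), (41, 9), (42, 68), (43, -17), (44, 38), (45, 176), (46, 44), (47, 165), (48, 35), (49, 62), (50, -61), (51, -16), (52, 65), (53, 20), (54, 18), (55, 96), (56, 28), (57, -24), (58, 2), (59, 50), (60, -40)]]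

/-- The certificate for the upper bound. -/
def upperTwo : Upper where
  W := upperTwo_W0 ++ upperTwo_W1
  rels := upperTwo_rels0 ++ upperTwo_rels1 ++ upperTwo_rels2 ++ upperTwo_rels3 ++ upperTwo_rels4 ++ upperTwo_rels5 ++ upperTwo_rels6 ++ upperTwo_rels7 ++ upperTwo_rels8 ++ upperTwo_rels9 ++ upperTwo_rels10
  NF := incW 11 0
  cons := upperTwo_cons0 ++ upperTwo_cons1 ++ upperTwo_cons2 ++ upperTwo_cons3 ++ upperTwo_cons4 ++ upperTwo_cons5 ++ upperTwo_cons6 ++ upperTwo_cons7 ++ upperTwo_cons8 ++ upperTwo_cons9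
  fus := upperTwo_fus0
  K := upperTwo_K0 ++ upperTwo_K1 ++ upperTwo_K2 ++ upperTwo_K3 ++ upperTwo_K4 ++ upperTwo_K5 ++ upperTwo_K6 ++ upperTwo_K7 ++ upperTwo_K8 ++ upperTwo_K9 ++ upperTwo_K10
  sec := upperTwo_sec0 ++ upperTwo_sec1
  C := upperTwo_C0 ++ upperTwo_C1 ++ upperTwo_C2 ++ upperTwo_C3 ++ upperTwo_C4 ++ upperTwo_C5 ++ upperTwo_C6 ++ upperTwo_C7 ++ upperTwo_C8 ++ upperTwo_C9 ++ upperTwo_C10
  e := []
  d := []
  A := upperTwo_A0 ++ upperTwo_A1 ++ upperTwo_A2 ++ upperTwo_A3 ++ upperTwo_A4 ++ upperTwo_A5 ++ upperTwo_A6 ++ upperTwo_A7 ++ upperTwo_A8 ++ upperTwo_A9 ++ upperTwo_A10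
  sels := upperTwo_sels0 ++ upperTwo_sels1 ++ upperTwo_sels2 ++ upperTwo_sels3 ++ upperTwo_sels4 ++ upperTwo_sels5 ++ upperTwo_sels6 ++ upperTwo_sels7 ++ upperTwo_sels8 ++ upperTwo_sels9 ++ upperTwo_sels10
  dsels := []

end CfsgLib.TitsMult
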