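/-
The tests for the multiplier of the Tits group.
-/
import Cfsg.Agent.TitsMult.TwoData
import Cfsg.Agent.TitsMult.ThreeData
import Cfsg.Agent.TitsMult.FiveData
import Cfsg.Agent.TitsMult.Ops
import Cfsg.Agent.TitsMult.TwoTab
import Cfsg.Agent.TitsMult.PC

set_option autoImplicit false
set_option maxRecDepth 100000
set_option maxHeartbeats 4000000
set_option Elab.async false

namespace CfsgLib.TitsMult

open CfsgLib.ExtCert CfsgLib.CentralCert

theorem three_ok : upperThree.ok one mul base = true := by decide +kernel

theorem five_ok : upperFive.ok one mul base = true := by decide +kernel

theorem two_rels : upperTwo.relsOK one mul base = true := by decide +kernel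

theorem two_fus : upperTwo.fusOK one mul base = true := by decide +kernel

theorem two_sec : upperTwo.secOK = true := by decide +kernel

theorem two_tab : upperTwo.sTab one mul base = sylCodes := by decide +kernel

theorem two_pc : pcRelsOK 11 upperTwo.rels = true := by decide +kernel

theorem two_orbits : orbitsOK mul one sylCodes 11 orbitSets = true := by decide +kernel

theorem orbit_bound : orbitSets.all (fun l => l.all fun u => Nat.blt u (2 ^ 52) && Nat.beq (mul u one) u) = true := by
  decide +kernel

end CfsgLib.TitsMult
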