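/-
A test for vanishing of integral forms by packing them into one integer.
-/
import Cfsg.Agent.CentralCert.Basic
import Mathlib.Algebra.BigOperators.Intervals
import Mathlib.Algebra.Order.BigOperators.Group.Finset

set_option autoImplicit false

namespace CfsgLib.TitsMult

open CfsgLib.ExtCert CfsgLib.CentralCert

/-- The packed value of a form. -/
def packZ (s : ℕ) : ZForm → ℤ
  | [] => 0
  | e :: f => e.2 * (Int.ofNat (2 ^ (s * e.1))) + packZ s f

/-- A form vanishes: the coefficients are small and the packed value is zero. -/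
def packOK (n : ℕ) (f : ZForm) : Bool :=
  f.all (fun e => Nat.blt e.1 n && Nat.blt e.2.natAbs (2 ^ 100)) && Nat.blt f.length (2 ^ 26) &&
    Nat.beq (packZ 128 f).natAbs 0

theorem packZ_eq (s : ℕ) (f : ZForm) : packZ s f = lval (fun k => ((2 : ℤ) ^ s) ^ k) f := by
  induction f with
  | nil => simp [packZ]
  | cons e f ih => simp [packZ, ih, pow_mul]

theorem eq_zero_of_sum {X : ℤ} : ∀ (n : ℕ) (a : ℕ → ℤ), (∀ k < n, 2 * |a k| < X) →
    ∑ k ∈ Finset.range n, a k * X ^ k = 0 → ∀ k < n, a k = 0 := by
  intro n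
  induction n with
  | zero => intro a _ _ k hk; omega
  | succ n ih =>
    intro a hb hs
    rw [Finset.sum_range_succ'] at hs
    have hX : X ≠ 0 := by
      have := hb 0 (Nat.succ_pos n)
      have := abs_nonneg (a 0)
      omega
    have hrest : ∑ k ∈ Finset.range n, a (k + 1) * X ^ (k + 1) = X * ∑ k ∈ Finset.range n, a (k + 1) * X ^ k := by
      rw [Finset.mul_sum]; exact Finset.sum_congr rfl fun k _ => by ring
    rw [hrest, pow_zero, mul_one] at hs
    have h0 : a 0 = 0 := by
      refine Int.eq_zero_of_abs_lt_dvd (m := X) ⟨-∑ k ∈ Finset.range n, a (k + 1) * X ^ k, by linarith⟩ ?_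
      have := hb 0 (Nat.succ_pos n)
      have := abs_nonneg (a 0)
      omega
    rw [h0, add_zero, mul_eq_zero] at hs
    intro k hk
    cases k with
    | zero => exact h0
    | succ k =>
      exact ih (fun k => a (k + 1)) (fun k hk' => hb (k + 1) (by omega)) (hs.resolve_left hX) k (by omega)

theorem abs_acc_le {b : ℤ} (hb : 0 ≤ b) (k : ℕ) : ∀ f : ZForm, (∀ e ∈ f, |e.2| ≤ b) →
    |acc k f| ≤ f.length * b := by
  intro f
  induction f with
  | nil => intro _; simp [acc]
  | cons e f ih =>
    intro h
    have h1 := ih fun x hx => h x (List.mem_cons_of_mem _ hx)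
    have h2 : |(if e.1 = k then e.2 else 0)| ≤ b := by
      split
      · exact h e List.mem_cons_self
      · simpa using hb
    rw [acc, List.length_cons, Nat.cast_succ, add_mul, one_mul]
    exact (abs_add_le _ _).trans (by linarith)

theorem zeroOK_of_packOK {n : ℕ} {f : ZForm} (h : packOK n f = true) : zeroOK n f = true := by
  simp only [packOK, Bool.and_eq_true, List.all_eq_true, Nat.blt_eq] at h
  obtain ⟨⟨hf, hlen⟩, hz⟩ := h
  have hz' : packZ 128 f = 0 := Int.natAbs_eq_zero.mp (Nat.eq_of_beq_eq_true hz)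
  rw [packZ_eq, lval_eq_sum _ f fun e he => (hf e he).1] at hz'
  simp only [smul_eq_mul] at hz'
  simp only [zeroOK, Bool.and_eq_true, List.all_eq_true, decide_eq_true_eq, List.mem_range, Nat.blt_eq]
  refine ⟨fun e he => (hf e he).1, eq_zero_of_sum n (fun k => acc k f) (fun k _ => ?_) hz'⟩
  have h1 := abs_acc_le (b := 2 ^ 100) (by positivity) k f fun e he => by
    rw [← Int.natCast_natAbs]
    exact_mod_cast (hf e he).2.le
  have h2 : (f.length : ℤ) * 2 ^ 100 ≤ 2 ^ 26 * 2 ^ 100 := by
    refine mul_le_mul_of_nonneg_right ?_ (by positivity)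
    exact_mod_cast hlen.le
  norm_num at h1 h2 ⊢
  omega

end CfsgLib.TitsMult
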