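/-
The tests of an upper-bound certificate, row by row.
-/
import Cfsg.Agent.TitsMult.Fast
import Cfsg.Agent.TitsMult.Packed

set_option autoImplicit false

namespace CfsgLib.TitsMult

open CfsgLib.ExtCert CfsgLib.CentralCert

/-- One of the derived conditions. -/
def kRow (D : Upper) (n i : ℕ) : Bool :=
  if Nat.blt i D.cons.length then
    let c := D.cons.getD i ([], 0)
    let A := collectPS D.rels n fuel (c.1 ++ (D.rels.getD c.2 ([], [])).1)
    let B := collectPS D.rels n fuel (c.1 ++ (D.rels.getD c.2 ([], [])).2)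
    eqW A.1 B.1 && Nat.blt c.2 D.rels.length &&
      packOK D.rels.length (symF A.2 ++ negF (symF B.2) ++ [(c.2, -1)] ++ negF (D.K.getD i []))
  else
    let u := D.fus.getD (i - D.cons.length) ⟨[], [], [], [], []⟩
    let A := collectPS D.rels n fuel (flat u.U u.l)
    let B := collectPS D.rels n fuel (flat u.U u.r)
    let A' := collectPS D.rels n fuel (flat u.U' u.l)
    let B' := collectPS D.rels n fuel (flat u.U' u.r)
    eqW A.1 B.1 && eqW A'.1 B'.1 && sameCnt u.U.length u.l u.r && Nat.blt (i - D.cons.length) D.fus.length &&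
      packOK D.rels.length (symF A'.2 ++ negF (symF B'.2) ++ negF (symF A.2) ++ symF B.2 ++ negF (D.K.getD i []))

theorem derived_of_rows (D : Upper) (n : ℕ) (h : ∀ i < D.K.length, kRow D n i = true) :
    ∀ f ∈ D.K, D.Derived f := by
  intro f hf
  obtain ⟨i, hi, rfl⟩ := List.mem_iff_getElem.mp hf
  have hr := h i hi
  unfold kRow at hr
  rw [List.getD_eq_getElem D.K _ hi] at hr
  split at hr
  · simp only [Bool.and_eq_true, Nat.blt_eq] at hr
    obtain ⟨⟨hAB, hk⟩, hz⟩ := hr
    exact Or.inl ⟨_, _, _, _, _, hk, rew_collectPS _ n fuel _,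
      (eq_of_eqW _ _ hAB) ▸ rew_collectPS _ n fuel _, zeroOK_of_packOK hz⟩
  · simp only [Bool.and_eq_true, Nat.blt_eq] at hr
    obtain ⟨⟨⟨⟨hAB, hAB'⟩, hcnt⟩, hlt⟩, hz⟩ := hr
    refine Or.inr ⟨_, ?_, _, _, _, _, _, _, hcnt, rew_collectPS _ n fuel _,
      (eq_of_eqW _ _ hAB) ▸ rew_collectPS _ n fuel _, rew_collectPS _ n fuel _,
      (eq_of_eqW _ _ hAB') ▸ rew_collectPS _ n fuel _, zeroOK_of_packOK hz⟩
    rw [List.getD_eq_getElem _ _ hlt]
    exact List.getElem_mem _

/-- One of the identities. -/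
def identRow (D : Upper) (k : ℕ) : Bool :=
  packOK D.rels.length ([(k, 1)] ++ negF (subst D.sec (D.C.getD k [])) ++ negF (subst D.e (D.A.getD k [])) ++
    subst D.K (D.sels.getD k []))

theorem identOK_of_rows (D : Upper) (he : D.e = []) (h : ∀ k < D.rels.length, identRow D k = true) :
    D.identOK = true := by
  simp only [Upper.identOK, Bool.and_eq_true, List.all_eq_true, List.mem_range]
  refine ⟨fun k hk => zeroOK_of_packOK (h k hk), fun i hi => ?_⟩
  rw [he] at hi
  exact absurd hi (Nat.not_lt_zero _)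

/-- A block of rows. -/
def block (f : ℕ → Bool) (a b : ℕ) : Bool := (List.range' a b).all f

theorem of_block {f : ℕ → Bool} {a b : ℕ} (h : block f a b = true) {i : ℕ} (h1 : a ≤ i) (h2 : i < a + b) :
    f i = true := by
  simp only [block, List.all_eq_true, List.mem_range'_1] at h
  exact h i ⟨h1, h2⟩

end CfsgLib.TitsMult
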