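/-
The row tests for the Sylow two-subgroup of the Tits group.
-/
import Cfsg.Agent.TitsMult.Rows
import Cfsg.Agent.TitsMult.TwoData

set_option autoImplicit false
set_option maxRecDepth 100000
set_option maxHeartbeats 4000000
set_option Elab.async false

namespace CfsgLib.TitsMult

open CfsgLib.ExtCert CfsgLib.CentralCert

theorem k_rows_0 : block (kRow upperTwo 11) 0 8 = true := by decide +kernel

theorem k_rows_1 : block (kRow upperTwo 11) 8 8 = true := by decide +kernel

theorem k_rows_2 : block (kRow upperTwo 11) 16 8 = true := by decide +kernel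

theorem k_rows_3 : block (kRow upperTwo 11) 24 8 = true := by decide +kernel

theorem k_rows_4 : block (kRow upperTwo 11) 32 8 = true := by decide +kernel

theorem k_rows_5 : block (kRow upperTwo 11) 40 8 = true := by decide +kernel

theorem k_rows_6 : block (kRow upperTwo 11) 48 8 = true := by decide +kernel

theorem k_rows_7 : block (kRow upperTwo 11) 56 5 = true := by decide +kernel

theorem ident_rows_0 : block (identRow upperTwo) 0 6 = true := by decide +kernel

theorem ident_rows_1 : block (identRow upperTwo) 6 6 = true := by decide +kernel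

theorem ident_rows_2 : block (identRow upperTwo) 12 6 = true := by decide +kernel

theorem ident_rows_3 : block (identRow upperTwo) 18 6 = true := by decide +kernel

theorem ident_rows_4 : block (identRow upperTwo) 24 6 = true := by decide +kernel

theorem ident_rows_5 : block (identRow upperTwo) 30 6 = true := by decide +kernel

theorem ident_rows_6 : block (identRow upperTwo) 36 6 = true := by decide +kernel

theorem ident_rows_7 : block (identRow upperTwo) 42 6 = true := by decide +kernel

theorem ident_rows_8 : block (identRow upperTwo) 48 6 = true := by decide +kernel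

theorem ident_rows_9 : block (identRow upperTwo) 54 6 = true := by decide +kernel

theorem ident_rows_10 : block (identRow upperTwo) 60 6 = true := by decide +kernel

theorem two_k : ∀ f ∈ upperTwo.K, upperTwo.Derived f := by
  refine derived_of_rows _ 11 fun i hi => ?_
  have hi' : i < 61 := by
    have e : upperTwo.K.length = 61 := by decide +kernel
    omega
  rcases (by omega : (0 ≤ i ∧ i < 8) ∨ (8 ≤ i ∧ i < 16) ∨ (16 ≤ i ∧ i < 24) ∨ (24 ≤ i ∧ i < 32) ∨ (32 ≤ i ∧ i < 40) ∨ (40 ≤ i ∧ i < 48) ∨ (48 ≤ i ∧ i < 56) ∨ (56 ≤ i ∧ i < 61)) with h | h | h | h | h | h | h | h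
  · exact of_block k_rows_0 h.1 (by omega)
  · exact of_block k_rows_1 h.1 (by omega)
  · exact of_block k_rows_2 h.1 (by omega)
  · exact of_block k_rows_3 h.1 (by omega)
  · exact of_block k_rows_4 h.1 (by omega)
  · exact of_block k_rows_5 h.1 (by omega)
  · exact of_block k_rows_6 h.1 (by omega)
  · exact of_block k_rows_7 h.1 (by omega)

theorem two_ident : upperTwo.identOK = true := by
  refine identOK_of_rows _ rfl fun i hi => ?_
  have hi' : i < 66 := by
    have e : upperTwo.rels.length = 66 := by decide +kernel
    omega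
  rcases (by omega : (0 ≤ i ∧ i < 6) ∨ (6 ≤ i ∧ i < 12) ∨ (12 ≤ i ∧ i < 18) ∨ (18 ≤ i ∧ i < 24) ∨ (24 ≤ i ∧ i < 30) ∨ (30 ≤ i ∧ i < 36) ∨ (36 ≤ i ∧ i < 42) ∨ (42 ≤ i ∧ i < 48) ∨ (48 ≤ i ∧ i < 54) ∨ (54 ≤ i ∧ i < 60) ∨ (60 ≤ i ∧ i < 66)) with h | h | h | h | h | h | h | h | h | h | h
  · exact of_block ident_rows_0 h.1 (by omega)
  · exact of_block ident_rows_1 h.1 (by omega)
  · exact of_block ident_rows_2 h.1 (by omega)
  · exact of_block ident_rows_3 h.1 (by omega)
  · exact of_block ident_rows_4 h.1 (by omega)
  · exact of_block ident_rows_5 h.1 (by omega)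
  · exact of_block ident_rows_6 h.1 (by omega)
  · exact of_block ident_rows_7 h.1 (by omega)
  · exact of_block ident_rows_8 h.1 (by omega)
  · exact of_block ident_rows_9 h.1 (by omega)
  · exact of_block ident_rows_10 h.1 (by omega)

end CfsgLib.TitsMult
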