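/-
The multiplier of the Tits group is trivial.
-/
import Cfsg.Agent.CentralCert.Assemble
import Cfsg.Agent.TitsMult.Elems
import Cfsg.Agent.TitsMult.OK
import Cfsg.Agent.TitsMult.RowsOK

set_option autoImplicit false
set_option maxRecDepth 100000
set_option maxHeartbeats 1000000

namespace CfsgLib.TitsMult

open CfsgLib.ExtCert CfsgLib.CentralCert Cfsg.Lie

attribute [local irreducible] tab gcode mcode baseT mul one base genE fuel

/-- The map to matrices, as codes. -/
noncomputable def model : Model TitsGroup ℕ where
  enc x := gcode x.1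
  one := one
  mul := mul
  inj := gcode_injective.comp Subtype.val_injective
  enc_one := gcode_one
  enc_mul x y := gcode_mul x.1 y.1

theorem two_e_length : upperTwo.e.length = 0 := rfl

theorem three_e_length : upperThree.e.length = 0 := rfl

theorem five_e_length : upperFive.e.length = 0 := rfl

theorem two_W_length : upperTwo.W.length = 11 := rfl

theorem two_NF : upperTwo.NF = incW 11 0 := rfl

theorem two_nodup {x : ℕ → TitsGroup} (hx : ∀ i, model.enc (x i) = base.getD i model.one) :
    (upperTwo.NF.map (tab model.one model.mul (upperTwo.sTab model.one model.mul base))).Nodup := by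
  haveI : Finite TitsGroup :=
    Nat.finite_of_card_ne_zero (tits_group_facts.2.1.trans_ne (by norm_num))
  have hs : ∀ i, model.enc (ev x (upperTwo.W.getD i [])) =
      (upperTwo.sTab model.one model.mul base).getD i model.one := by
    intro i
    rw [model.tab_spec hx, Upper.sTab]
    rcases lt_or_ge i upperTwo.W.length with hi | hi
    · rw [List.getD_eq_getElem _ _ hi, List.getD_eq_getElem _ _ (by simpa using hi), List.getElem_map]
    · rw [List.getD_eq_default _ _ hi, List.getD_eq_default _ _ (by simpa using hi)]
      unfold tab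
      rfl
  rw [two_NF]
  have hb : ∀ l ∈ orbitSets, ∀ u ∈ l, u < 2 ^ 52 ∧ mul u one = u := fun l hl u hu => by
    have h := List.all_eq_true.mp (List.all_eq_true.mp orbit_bound l hl) u hu
    rw [Bool.and_eq_true, Nat.blt_eq] at h
    exact ⟨h.1, Nat.eq_of_beq_eq_true h.2⟩
  refine nodup_codes model hs (rels := upperTwo.rels) (fun k hk => ?_) two_pc mul orbitSets
    (fun l hl u hu => (hb l hl u hu).2) (fun l hl u hu a b => ?_)
    (by
      show orbitsOK mul one (upperTwo.sTab one mul base) 11 orbitSets = true
      rw [two_tab]; exact two_orbits)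
  · have h := two_rels
    simp only [Upper.relsOK, List.all_eq_true, decide_eq_true_eq] at h
    rw [List.getD_eq_getElem _ _ hk]
    exact model.eq_of_tab hs (h _ (List.getElem_mem _))
  · obtain ⟨M, hM⟩ := exists_code_eq (n := 52) (by norm_num) (hb l hl u hu).1
    show mul u (gcode (a * b).1) = mul (mul u (gcode a.1)) (gcode b.1)
    rw [← hM]
    exact gcode_act M a.1 b.1

theorem pow_index_trivial {Γ : Type} [Group Γ] [Finite Γ] {σ : Γ →* TitsGroup}
    (hσ : Cfsg.IsStemExtension σ) {z : Γ} (hz : z ∈ σ.ker) :
    z ^ 8775 = 1 ∧ z ^ 665600 = 1 ∧ z ^ 718848 = 1 := by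
  have hcard : Nat.card TitsGroup = 2 ^ 11 * 8775 := tits_group_facts.2.1
  have hx : ∀ i, model.enc (baseT i) = base.getD i model.one := gcode_baseT
  refine ⟨?_, ?_, ?_⟩
  · obtain ⟨E, -, -, hgen⟩ := upperTwo.bound_of_red model hx two_rels two_fus
      two_k two_sec two_ident
      (by rw [two_NF]; exact nil_mem_incW _ _) (two_nodup hx)
      (fun w hw i hi => by
        rw [two_NF] at hw
        rw [two_W_length]
        have := incW_letters _ _ w hw i hi
        omega)
      (fun v hv i hi => by
        rw [two_NF] at hv ⊢
        obtain ⟨v', hv', hred⟩ := exists_red two_pc 11 0 rfl (v ++ [i]) fun a ha => by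
          rcases List.mem_append.mp ha with ha | ha
          · have := incW_letters _ _ v hv a ha; omega
          · simp only [List.mem_singleton] at ha
            rw [two_W_length] at hi
            omega
        exact ⟨v', hv', hred⟩) hσ
    have h := hgen z hz 8775 (by
      rw [hcard, two_NF, incW_length, mul_comm])
    simpa [two_e_length] using h
  · obtain ⟨E, -, -, hgen⟩ := Upper.bound model upperThree hx three_ok hσ
    have h := hgen z hz 665600 (by
      rw [hcard, show upperThree.NF.length = 27 from rfl]; norm_num)
    simpa [three_e_length] using h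
  · obtain ⟨E, -, -, hgen⟩ := Upper.bound model upperFive hx five_ok hσ
    have h := hgen z hz 718848 (by
      rw [hcard, show upperFive.NF.length = 25 from rfl]; norm_num)
    simpa [five_e_length] using h

theorem hasCyclicSchurMultiplier : Cfsg.HasCyclicSchurMultiplier TitsGroup 1 := by
  have hcard : Nat.card TitsGroup = 2 ^ 11 * 8775 := tits_group_facts.2.1
  haveI : Finite TitsGroup := Nat.finite_of_card_ne_zero (by rw [hcard]; norm_num)
  refine ⟨⟨TitsGroup, inferInstance, inferInstance, MonoidHom.id _,
    ⟨Function.surjective_id, by simp, by simp⟩, ⟨?_⟩⟩, fun Γ _ _ σ hσ => ?_⟩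
  · exact (MulEquiv.subgroupCongr (MonoidHom.ker_eq_bot (MonoidHom.id _) Function.injective_id)).trans
      (MulEquiv.ofUnique)
  · refine ⟨1, fun z => ⟨1, Subtype.ext ?_⟩⟩
    have he := Subgroup.mem_bot.mp (pow_coprime_mem hσ (m := 13) (H := ⊥) (fun e he => ?_)
      (fun y hy => by
        obtain ⟨h2, h3, h5⟩ := pow_index_trivial hσ hy
        have := pow_gcd_eq_one.mpr ⟨pow_gcd_eq_one.mpr ⟨h2, h3⟩, h5⟩
        norm_num at this
        exact Subgroup.mem_bot.mpr this) z.2)
    · simpa using he.symm
    · rw [hcard] at he
      refine Nat.Coprime.symm ((Nat.Prime.coprime_iff_not_dvd (by norm_num)).mpr fun h13 => ?_)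
      have h169 : 13 ^ 2 ∣ e ^ 2 := pow_dvd_pow_of_dvd h13 2
      have := h169.trans he
      norm_num at this

end CfsgLib.TitsMult
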